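import Groth.Agent.AdeqLib.Basic

/-!
# The augmented Amitsur complex and adequate functors

`Cq R B k` is the `k`-fold tensor power of `B` over `R`, realised as a wide pushout, so that every map of
finite index sets acts on it.
-/

set_option autoImplicit false
set_option backward.isDefEq.respectTransparency false
set_option backward.isDefEq.respectTransparency.types false
set_option maxHeartbeats 800000
universe u v w

namespace Groth.Agent.AdeqLib

open CategoryTheory Limits Opposite TensorProduct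

section Powers

variable (R B : Type u) [CommRing R] [CommRing B] [Algebra R B]

/-- The `k`-fold tensor power of `B` over `R`. -/
noncomputable abbrev Cq (k : ℕ) : CommRingCat.{u} :=
  widePushout (CommRingCat.of R) (fun _ : Fin k => CommRingCat.of B) (fun _ => CommRingCat.ofHom (algebraMap R B))

/-- The structure map of a tensor power. -/
noncomputable def qHd (k : ℕ) : CommRingCat.of R ⟶ Cq R B k := WidePushout.head _

noncomputable instance (k : ℕ) : Algebra R (Cq R B k) := (qHd R B k).hom.toAlgebra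

/-- The coprojections of a tensor power. -/
noncomputable def qι (k : ℕ) (j : Fin k) : CommRingCat.of B ⟶ Cq R B k :=
  WidePushout.ι (fun _ : Fin k => CommRingCat.ofHom (algebraMap R B)) j

theorem algebraMap_qι (k : ℕ) (j : Fin k) : CommRingCat.ofHom (algebraMap R B) ≫ qι R B k j = qHd R B k :=
  WidePushout.arrow_ι (arrows := fun _ : Fin k => CommRingCat.ofHom (algebraMap R B)) j

theorem Cq_ext {k : ℕ} {T : CommRingCat.{u}} (f g : Cq R B k ⟶ T)
    (h0 : qHd R B k ≫ f = qHd R B k ≫ g) (h : ∀ j, qι R B k j ≫ f = qι R B k j ≫ g) : f = g :=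
  WidePushout.hom_ext _ _ _ h h0

/-- The map of tensor powers induced by a map of index sets. -/
noncomputable def qMap {k l : ℕ} (σ : Fin k → Fin l) : Cq R B k ⟶ Cq R B l :=
  WidePushout.desc (qHd R B l) (fun j => qι R B l (σ j)) (fun j => algebraMap_qι R B l (σ j))

theorem qHd_qMap {k l : ℕ} (σ : Fin k → Fin l) : qHd R B k ≫ qMap R B σ = qHd R B l :=
  WidePushout.head_desc _ _ _ _

theorem qι_qMap {k l : ℕ} (σ : Fin k → Fin l) (j : Fin k) : qι R B k j ≫ qMap R B σ = qι R B l (σ j) :=
  WidePushout.ι_desc _ _ _ _ _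

/-- The coface maps, as algebra maps. -/
noncomputable def qFace (k : ℕ) (i : Fin (k + 1)) : Cq R B k →ₐ[R] Cq R B (k + 1) :=
  { (qMap R B i.succAbove).hom with
    commutes' := fun r => RingHom.congr_fun (congrArg CommRingCat.Hom.hom (qHd_qMap R B i.succAbove)) r }

/-- Splitting off the first tensor factor. -/
noncomputable def qSplit (k : ℕ) : Cq R B (k + 1) ⟶ CommRingCat.of (B ⊗[R] Cq R B k) :=
  WidePushout.desc (CommRingCat.ofHom (algebraMap R (B ⊗[R] Cq R B k)))
    (Fin.cases (CommRingCat.ofHom Algebra.TensorProduct.includeLeftRingHom)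
      (fun j => qι R B k j ≫
        CommRingCat.ofHom (Algebra.TensorProduct.includeRight : Cq R B k →ₐ[R] B ⊗[R] Cq R B k).toRingHom))
    (by
      intro j
      induction j using Fin.cases with
      | zero => ext r; rfl
      | succ j =>
        simp only [Fin.cases_succ]
        rw [← Category.assoc, algebraMap_qι]
        ext r
        exact (Algebra.TensorProduct.includeRight : Cq R B k →ₐ[R] B ⊗[R] Cq R B k).commutes r)

theorem qHd_qSplit (k : ℕ) :
    qHd R B (k + 1) ≫ qSplit R B k = CommRingCat.ofHom (algebraMap R (B ⊗[R] Cq R B k)) :=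
  WidePushout.head_desc _ _ _ _

theorem qι_qSplit_zero (k : ℕ) :
    qι R B (k + 1) 0 ≫ qSplit R B k = CommRingCat.ofHom Algebra.TensorProduct.includeLeftRingHom :=
  WidePushout.ι_desc _ _ _ _ _

theorem qι_qSplit_succ (k : ℕ) (j : Fin k) :
    qι R B (k + 1) j.succ ≫ qSplit R B k = qι R B k j ≫
      CommRingCat.ofHom (Algebra.TensorProduct.includeRight : Cq R B k →ₐ[R] B ⊗[R] Cq R B k).toRingHom :=
  (WidePushout.ι_desc _ _ _ _ _).trans (Fin.cases_succ _)

/-- `qSplit` as an algebra map. -/
noncomputable def qSplitAlg (k : ℕ) : Cq R B (k + 1) →ₐ[R] B ⊗[R] Cq R B k :=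
  { (qSplit R B k).hom with
    commutes' := fun r => RingHom.congr_fun (congrArg CommRingCat.Hom.hom (qHd_qSplit R B k)) r }

theorem qFace_zero_qSplit (k : ℕ) (c : Cq R B k) :
    qSplitAlg R B k (qFace R B k 0 c) = (1 : B) ⊗ₜ[R] c := by
  have h : qMap R B (Fin.succAbove (0 : Fin (k + 1))) ≫ qSplit R B k =
      CommRingCat.ofHom (Algebra.TensorProduct.includeRight : Cq R B k →ₐ[R] B ⊗[R] Cq R B k).toRingHom := by
    refine Cq_ext R B _ _ ?_ (fun j => ?_)
    · rw [← Category.assoc, qHd_qMap, qHd_qSplit]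
      ext r
      exact ((Algebra.TensorProduct.includeRight : Cq R B k →ₐ[R] B ⊗[R] Cq R B k).commutes r).symm
    · rw [← Category.assoc, qι_qMap, Fin.succAbove_zero, qι_qSplit_succ]
  exact RingHom.congr_fun (congrArg CommRingCat.Hom.hom h) c

theorem qFace_succ_qSplit (k : ℕ) (i : Fin (k + 1)) (c : Cq R B (k + 1)) :
    qSplitAlg R B (k + 1) (qFace R B (k + 1) i.succ c) =
      Algebra.TensorProduct.map (AlgHom.id R B) (qFace R B k i) (qSplitAlg R B k c) := by
  have h : qMap R B (Fin.succAbove i.succ) ≫ qSplit R B (k + 1) = qSplit R B k ≫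
      CommRingCat.ofHom (Algebra.TensorProduct.map (AlgHom.id R B) (qFace R B k i)).toRingHom := by
    refine Cq_ext R B _ _ ?_ (fun j => ?_)
    · rw [← Category.assoc, qHd_qMap, qHd_qSplit, ← Category.assoc, qHd_qSplit]
      ext r
      exact ((Algebra.TensorProduct.map (AlgHom.id R B) (qFace R B k i)).commutes r).symm
    · rw [← Category.assoc, qι_qMap, ← Category.assoc]
      induction j using Fin.cases with
      | zero =>
        rw [Fin.succ_succAbove_zero, qι_qSplit_zero, qι_qSplit_zero]
        ext b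
        simp
      | succ j =>
        rw [Fin.succ_succAbove_succ, qι_qSplit_succ, qι_qSplit_succ, ← qι_qMap R B i.succAbove j, Category.assoc,
          Category.assoc]
        congr 1
  exact RingHom.congr_fun (congrArg CommRingCat.Hom.hom h) c

/-- Gluing back the first tensor factor. -/
noncomputable def qJoin (k : ℕ) : B ⊗[R] Cq R B k →ₐ[R] Cq R B (k + 1) :=
  Algebra.TensorProduct.productMap
    { (qι R B (k + 1) 0).hom with
      commutes' := fun r => RingHom.congr_fun (congrArg CommRingCat.Hom.hom (algebraMap_qι R B (k + 1) 0)) r }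
    (qFace R B k 0)

theorem qJoin_qSplit (k : ℕ) (c : Cq R B (k + 1)) : qJoin R B k (qSplitAlg R B k c) = c := by
  have h : qSplit R B k ≫ CommRingCat.ofHom (qJoin R B k).toRingHom = 𝟙 _ := by
    refine Cq_ext R B _ _ ?_ (fun j => ?_)
    · rw [← Category.assoc, qHd_qSplit, Category.comp_id]
      ext r
      exact (qJoin R B k).commutes r
    · rw [← Category.assoc, Category.comp_id]
      induction j using Fin.cases with
      | zero =>
        rw [qι_qSplit_zero]
        ext b
        simp [qJoin]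
      | succ j =>
        rw [qι_qSplit_succ, Category.assoc]
        refine Eq.trans ?_ ((qι_qMap R B (Fin.succAbove (0 : Fin (k + 1))) j).trans (by rw [Fin.succAbove_zero]))
        refine congrArg (qι R B k j ≫ ·) (CommRingCat.hom_ext (RingHom.ext fun c => ?_))
        show qJoin R B k ((1 : B) ⊗ₜ[R] c) = qFace R B k 0 c
        simp [qJoin]
  exact RingHom.congr_fun (congrArg CommRingCat.Hom.hom h) c

end Powers

section Complex

variable (R B : Type u) [CommRing R] [CommRing B] [Algebra R B]
variable (N : Type v) [AddCommGroup N] [Module R N]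

/-- The differential of the augmented Amitsur complex with coefficients in `N`. -/
noncomputable def qD (k : ℕ) : Cq R B k ⊗[R] N →ₗ[R] Cq R B (k + 1) ⊗[R] N :=
  ∑ i : Fin (k + 1), (-1 : ℤ) ^ (i : ℕ) • (qFace R B k i).toLinearMap.rTensor N

/-- Splitting off the first factor, with coefficients. -/
noncomputable def qS (k : ℕ) : Cq R B (k + 1) ⊗[R] N →ₗ[R] B ⊗[R] (Cq R B k ⊗[R] N) :=
  (TensorProduct.assoc R B (Cq R B k) N).toLinearMap ∘ₗ (qSplitAlg R B k).toLinearMap.rTensor N

theorem qS_injective (k : ℕ) : Function.Injective (qS R B N k) := by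
  refine Function.LeftInverse.injective
    (g := fun w => (qJoin R B k).toLinearMap.rTensor N ((TensorProduct.assoc R B (Cq R B k) N).symm w)) fun x => ?_
  show (qJoin R B k).toLinearMap.rTensor N ((TensorProduct.assoc R B (Cq R B k) N).symm
    (TensorProduct.assoc R B (Cq R B k) N ((qSplitAlg R B k).toLinearMap.rTensor N x))) = x
  rw [LinearEquiv.symm_apply_apply, ← LinearMap.rTensor_comp_apply]
  have h : (qJoin R B k).toLinearMap ∘ₗ (qSplitAlg R B k).toLinearMap = LinearMap.id :=
    LinearMap.ext fun c => qJoin_qSplit R B k c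
  rw [h, LinearMap.rTensor_id, LinearMap.id_apply]

theorem qS_face_zero (k : ℕ) (x : Cq R B k ⊗[R] N) :
    qS R B N k ((qFace R B k 0).toLinearMap.rTensor N x) = (1 : B) ⊗ₜ[R] x := by
  induction x using TensorProduct.induction_on with
  | zero => simp
  | tmul c n => simp [qS, qFace_zero_qSplit]
  | add x y hx hy => simp only [map_add, hx, hy, TensorProduct.tmul_add]

theorem qS_face_succ (k : ℕ) (i : Fin (k + 1)) (x : Cq R B (k + 1) ⊗[R] N) :
    qS R B N (k + 1) ((qFace R B (k + 1) i.succ).toLinearMap.rTensor N x) =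
      ((qFace R B k i).toLinearMap.rTensor N).lTensor B (qS R B N k x) := by
  induction x using TensorProduct.induction_on with
  | zero => simp
  | tmul c n =>
    simp only [qS, LinearMap.comp_apply, LinearMap.rTensor_tmul, AlgHom.toLinearMap_apply, qFace_succ_qSplit,
      LinearEquiv.coe_coe]
    induction qSplitAlg R B k c using TensorProduct.induction_on with
    | zero => simp
    | tmul b c => simp
    | add w w' hw hw' => simp only [map_add, TensorProduct.add_tmul, hw, hw']
  | add x y hx hy => simp only [map_add, hx, hy]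

theorem qS_qD_zero (x : Cq R B 0 ⊗[R] N) : qS R B N 0 (qD R B N 0 x) = (1 : B) ⊗ₜ[R] x := by
  rw [qD, Fin.sum_univ_one, Fin.val_zero, pow_zero, one_smul, qS_face_zero]

theorem qS_qD_succ (k : ℕ) (x : Cq R B (k + 1) ⊗[R] N) :
    qS R B N (k + 1) (qD R B N (k + 1) x) = (1 : B) ⊗ₜ[R] x - (qD R B N k).lTensor B (qS R B N k x) := by
  have h : (qD R B N k).lTensor B = ∑ i : Fin (k + 1), (-1 : ℤ) ^ (i : ℕ) •
      ((qFace R B k i).toLinearMap.rTensor N).lTensor B := by
    show LinearMap.lTensorHom B (∑ i : Fin (k + 1), _) = _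
    rw [map_sum]
    exact Finset.sum_congr rfl fun i _ => (LinearMap.lTensorHom B).map_smul_of_tower _ _
  rw [qD, h]
  simp only [LinearMap.sum_apply, LinearMap.smul_apply, map_sum, map_zsmul]
  rw [Fin.sum_univ_succ, sub_eq_add_neg, ← Finset.sum_neg_distrib]
  simp only [qS_face_zero, qS_face_succ, Fin.val_zero, pow_zero, one_smul, Fin.val_succ, pow_succ, mul_neg, mul_one,
    neg_smul]

theorem qD_qD : ∀ (k : ℕ) (x : Cq R B k ⊗[R] N), qD R B N (k + 1) (qD R B N k x) = 0
  | 0, x => qS_injective R B N 1 (by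
      rw [qS_qD_succ, qS_qD_zero, LinearMap.lTensor_tmul, sub_self, map_zero])
  | k + 1, x => qS_injective R B N (k + 2) (by
      have h : qD R B N (k + 1) ∘ₗ qD R B N k = 0 := LinearMap.ext (qD_qD k)
      rw [qS_qD_succ, qS_qD_succ, map_sub, LinearMap.lTensor_tmul, ← LinearMap.lTensor_comp_apply, h,
        LinearMap.lTensor_zero, LinearMap.zero_apply, sub_zero, sub_self, map_zero])

theorem qD_injective [Module.FaithfullyFlat R B] (x : Cq R B 0 ⊗[R] N) (hx : qD R B N 0 x = 0) : x = 0 := by
  have h := congrArg (qS R B N 0) hx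
  rw [qS_qD_zero, map_zero] at h
  exact Module.FaithfullyFlat.tensorProduct_mk_injective (A := R) (B := B) (Cq R B 0 ⊗[R] N)
    (a₁ := x) (a₂ := 0) (by simpa using h)

theorem qD_exact [Module.FaithfullyFlat R B] (k : ℕ) (x : Cq R B (k + 1) ⊗[R] N)
    (hx : qD R B N (k + 1) x = 0) : ∃ y, qD R B N k y = x := by
  have h1 := congrArg (qS R B N (k + 1)) hx
  rw [qS_qD_succ, map_zero, sub_eq_zero] at h1
  have h0 : (1 : B) ⊗ₜ[R] ((LinearMap.range (qD R B N k)).mkQ x) = 0 := by
    have := congrArg ((LinearMap.range (qD R B N k)).mkQ.lTensor B) h1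
    rw [LinearMap.lTensor_tmul, ← LinearMap.lTensor_comp_apply, LinearMap.range_mkQ_comp,
      LinearMap.lTensor_zero, LinearMap.zero_apply] at this
    exact this
  have := Module.FaithfullyFlat.tensorProduct_mk_injective (A := R) (B := B)
    (Cq R B (k + 1) ⊗[R] N ⧸ LinearMap.range (qD R B N k))
    (a₁ := (LinearMap.range (qD R B N k)).mkQ x) (a₂ := 0) (by simpa using h0)
  exact (Submodule.Quotient.mk_eq_zero _).mp this

variable {N}
variable {M : Type w} [AddCommGroup M] [Module R M]

theorem qD_natural (k : ℕ) (f : M →ₗ[R] N) (x : Cq R B k ⊗[R] M) :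
    f.lTensor (Cq R B (k + 1)) (qD R B M k x) = qD R B N k (f.lTensor (Cq R B k) x) := by
  simp only [qD, LinearMap.sum_apply, LinearMap.smul_apply, map_sum, map_zsmul]
  refine Finset.sum_congr rfl fun i _ => congrArg _ ?_
  induction x using TensorProduct.induction_on with
  | zero => simp
  | tmul c m => simp
  | add x y hx hy => simp only [map_add, hx, hy]

/-- Correcting a primitive into the kernel of a map of coefficient modules. -/
theorem qD_exact_ker [Module.FaithfullyFlat R B] (φ : M →ₗ[R] N) (k : ℕ) (z : Cq R B (k + 1) ⊗[R] M)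
    (hz : qD R B M (k + 1) z = 0) (hφ : φ.lTensor (Cq R B (k + 1)) z = 0) :
    ∃ w, qD R B M k w = z ∧ φ.lTensor (Cq R B k) w = 0 := by
  obtain ⟨w, hw⟩ := qD_exact R B M k z hz
  have hu : qD R B N k (φ.lTensor (Cq R B k) w) = 0 := by rw [← qD_natural, hw, hφ]
  cases k with
  | zero => exact ⟨w, hw, qD_injective R B N _ hu⟩
  | succ j =>
    obtain ⟨v, hv⟩ := qD_exact R B N j _ hu
    suffices ∃ m, φ.lTensor (Cq R B (j + 1)) (qD R B M j m) = φ.lTensor (Cq R B (j + 1)) w by
      obtain ⟨m, hm⟩ := this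
      exact ⟨w - qD R B M j m, by rw [map_sub, qD_qD, sub_zero, hw], by rw [map_sub, hm, sub_self]⟩
    let π := (LinearMap.range φ).mkQ
    have hex : ∀ i, Function.Exact (φ.lTensor (Cq R B i)) (π.lTensor (Cq R B i)) := fun i =>
      lTensor_exact _ (LinearMap.exact_map_mkQ_range φ) (Submodule.mkQ_surjective _)
    have hdv : qD R B _ j (π.lTensor (Cq R B j) v) = 0 := by
      rw [← qD_natural, hv]
      exact ((hex (j + 1)) _).2 ⟨w, rfl⟩
    have hv' : ∃ v', π.lTensor (Cq R B j) v' = 0 ∧ qD R B N j v' = φ.lTensor (Cq R B (j + 1)) w := by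
      cases j with
      | zero => exact ⟨v, qD_injective R B _ _ hdv, hv⟩
      | succ i =>
        obtain ⟨q, hq⟩ := qD_exact R B _ i _ hdv
        obtain ⟨q', rfl⟩ := LinearMap.lTensor_surjective (Cq R B i) (Submodule.mkQ_surjective _) q
        exact ⟨v - qD R B N i q', by rw [map_sub, qD_natural, hq, sub_self], by rw [map_sub, qD_qD, sub_zero, hv]⟩
    obtain ⟨v', hv'0, hv'1⟩ := hv'
    obtain ⟨m, rfl⟩ := ((hex j) _).1 hv'0
    exact ⟨m, by rw [qD_natural, hv'1]⟩

end Complex

variable {A : Type u} [CommRing A]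

/-- A tensor power as an algebra. -/
noncomputable abbrev qAlg (B : Type u) [CommRing B] [Algebra A B] (k : ℕ) : Adeq.Alg A := Adeq.algOf A (Cq A B k)

/-- The cofaces as maps of algebras. -/
noncomputable abbrev qδ (B : Type u) [CommRing B] [Algebra A B] (k : ℕ) (i : Fin (k + 1)) :
    qAlg (A := A) B k ⟶ qAlg B (k + 1) := CommAlgCat.ofHom (qFace A B k i)

/-- The Amitsur complex of an adequate functor is exact. -/
theorem Pres.amitsur_exact {F : Adeq.MVF A} (q : Pres F) (B : Type u) [CommRing B] [Algebra A B]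
    [Module.FaithfullyFlat A B] (k : ℕ) (x : Val F (qAlg B (k + 1)))
    (hx : ∑ i : Fin (k + 2), (-1 : ℤ) ^ (i : ℕ) • res F (qδ B (k + 1) i) x = 0) :
    ∃ y : Val F (qAlg B k), ∑ i : Fin (k + 1), (-1 : ℤ) ^ (i : ℕ) • res F (qδ B k i) y = x := by
  let E : ∀ l, Val F (qAlg B l) →+ Cq A B l ⊗[A] q.M := fun l =>
    (uEquiv q.M (qAlg B l)).toLinearMap.toAddMonoidHom.comp (app q.ι (qAlg B l)).toAddMonoidHom
  have hE : ∀ l (y : Val F (qAlg B l)),
      E (l + 1) (∑ i : Fin (l + 1), (-1 : ℤ) ^ (i : ℕ) • res F (qδ B l i) y) = qD A B q.M l (E l y) := by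
    intro l y
    simp only [qD, LinearMap.sum_apply, LinearMap.smul_apply, map_sum, map_zsmul]
    refine Finset.sum_congr rfl fun i _ => congrArg _ ?_
    exact (congrArg (uEquiv q.M (qAlg B (l + 1))) (app_res q.ι (qδ B l i) y)).trans (uEquiv_res _ _)
  obtain ⟨w, hw, hwN⟩ := qD_exact_ker A B q.φ.hom k (E (k + 1) x)
    (by rw [← hE, hx, map_zero])
    ((uEquiv_map q.φ (qAlg B (k + 1)) _).symm.trans
      ((congrArg (uEquiv q.N (qAlg B (k + 1))) ((q.mem _ _).2 ⟨x, rfl⟩)).trans (map_zero (uEquiv q.N (qAlg B (k + 1))))))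
  obtain ⟨y, hy⟩ := (q.mem (qAlg B k) ((uEquiv q.M (qAlg B k)).symm w)).1 ((uEquiv q.N (qAlg B k)).injective (by
    rw [uEquiv_map, LinearEquiv.apply_symm_apply, map_zero]
    exact hwN))
  refine ⟨y, q.inj _ ((uEquiv q.M (qAlg B (k + 1))).injective ?_)⟩
  refine (hE k y).trans (Eq.trans (congrArg (qD A B q.M k) ?_) hw)
  show uEquiv q.M (qAlg B k) (app q.ι (qAlg B k) y) = w
  rw [hy, LinearEquiv.apply_symm_apply]

end Groth.Agent.AdeqLib
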