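import Mathlib
import Groth.Prelude.Def_Adeq

/-!
# Elementwise tools for module-valued functors on algebras
-/

set_option autoImplicit false
set_option backward.isDefEq.respectTransparency false
universe u

namespace Groth.Agent.AdeqLib

open CategoryTheory Limits Opposite TensorProduct

variable {A : Type u} [CommRing A] {F G H : Adeq.MVF A}

/-- The value of a functor at an algebra. -/
abbrev Val (F : Adeq.MVF A) (B : Adeq.Alg A) : Type (u + 1) := F.obj (Adeq.pt B)

/-- A component of a morphism as a linear map. -/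
noncomputable def app (φ : F ⟶ G) (B : Adeq.Alg A) : Val F B →ₗ[B] Val G B := (φ.app (Adeq.pt B)).hom

/-- The transition maps. -/
noncomputable def res (F : Adeq.MVF A) {B B' : Adeq.Alg A} (f : B ⟶ B') : Val F B →+ Val F B' where
  toFun x := F.map (Adeq.ptHom f) x
  map_zero' := map_zero (F.map (Adeq.ptHom f)).hom
  map_add' := map_add (F.map (Adeq.ptHom f)).hom

theorem res_smul {B B' : Adeq.Alg A} (f : B ⟶ B') (b : B) (x : Val F B) :
    res F f (b • x) = f.hom b • res F f x := F.map_smul (Adeq.ptHom f) b x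

theorem res_comp {B B' B'' : Adeq.Alg A} (f : B ⟶ B') (g : B' ⟶ B'') (x : Val F B) :
    res F (f ≫ g) x = res F g (res F f x) := F.map_comp_apply (Adeq.ptHom f) (Adeq.ptHom g) x

theorem res_id (B : Adeq.Alg A) (x : Val F B) : res F (𝟙 B) x = x := by
  show F.map (𝟙 (Adeq.pt B)) x = x
  rw [F.map_id]
  rfl

theorem app_res (φ : F ⟶ G) {B B' : Adeq.Alg A} (f : B ⟶ B') (x : Val F B) :
    app φ B' (res F f x) = res G f (app φ B x) := PresheafOfModules.naturality_apply φ (Adeq.ptHom f) x

theorem app_comp (φ : F ⟶ G) (ψ : G ⟶ H) (B : Adeq.Alg A) (x : Val F B) :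
    app (φ ≫ ψ) B x = app ψ B (app φ B x) := rfl

theorem app_id (B : Adeq.Alg A) (x : Val F B) : app (𝟙 F) B x = x := rfl

theorem app_zero (B : Adeq.Alg A) (x : Val F B) : app (0 : F ⟶ G) B x = 0 := rfl

theorem app_sub (φ ψ : F ⟶ G) (B : Adeq.Alg A) (x : Val F B) : app (φ - ψ) B x = app φ B x - app ψ B x := rfl

theorem app_add (φ ψ : F ⟶ G) (B : Adeq.Alg A) (x : Val F B) : app (φ + ψ) B x = app φ B x + app ψ B x := rfl

theorem hom_ext {φ ψ : F ⟶ G} (h : ∀ B x, app φ B x = app ψ B x) : φ = ψ :=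
  PresheafOfModules.hom_ext fun X => ModuleCat.hom_ext (LinearMap.ext fun x => h X.unop.unop x)

/-- A morphism from natural linear maps. -/
noncomputable def homMk (f : ∀ B : Adeq.Alg A, Val F B →ₗ[B] Val G B)
    (hf : ∀ {B B' : Adeq.Alg A} (g : B ⟶ B') (x : Val F B), f B' (res F g x) = res G g (f B x)) : F ⟶ G :=
  PresheafOfModules.Hom.mk (fun X => ModuleCat.ofHom (f X.unop.unop))
    (fun {X Y} g => ModuleCat.hom_ext (LinearMap.ext fun x => hf (B := X.unop.unop) (B' := Y.unop.unop) g.unop.unop x))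

theorem app_homMk (f : ∀ B : Adeq.Alg A, Val F B →ₗ[B] Val G B) (hf) (B : Adeq.Alg A) (x : Val F B) :
    app (homMk f hf) B x = f B x := rfl

theorem mono_iff {φ : F ⟶ G} : Mono φ ↔ ∀ B, Function.Injective (app φ B) := by
  refine ⟨fun h B => PresheafOfModules.injective_of_mono φ (Adeq.pt B), fun h => ?_⟩
  exact PresheafOfModules.mono_of_injective fun {X} a b hab => h X.unop.unop hab

theorem epi_iff {φ : F ⟶ G} : Epi φ ↔ ∀ B, Function.Surjective (app φ B) := by
  refine ⟨fun h B => PresheafOfModules.surjective_of_epi φ (Adeq.pt B), fun h => ?_⟩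
  exact PresheafOfModules.epi_of_surjective fun X => h X.unop.unop

theorem isIso_of_bijective {φ : F ⟶ G} (h : ∀ B, Function.Bijective (app φ B)) : IsIso φ := by
  haveI := mono_iff.2 fun B => (h B).1
  haveI := epi_iff.2 fun B => (h B).2
  exact isIso_of_mono_of_epi φ

/-- Evaluation. -/
noncomputable abbrev ev (B : Adeq.Alg A) : Adeq.MVF A ⥤ ModuleCat.{u + 1} B :=
  PresheafOfModules.evaluation.{u + 1} (Adeq.ringOf A) (Adeq.pt B)

theorem ev_preservesFiniteLimits (B : Adeq.Alg A) : PreservesFiniteLimits (ev B) :=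
  PresheafOfModules.evaluation_preservesFiniteLimits _ _

theorem ev_preservesFiniteColimits (B : Adeq.Alg A) : PreservesFiniteColimits (ev B) :=
  PresheafOfModules.Finite.evaluation_preservesFiniteColimits _ _

theorem exact_apply {S : ShortComplex (Adeq.MVF A)} (hS : S.Exact) (B : Adeq.Alg A) :
    Function.Exact (app S.f B) (app S.g B) := by
  haveI := ev_preservesFiniteLimits B
  haveI := ev_preservesFiniteColimits B
  haveI : (ev B).PreservesZeroMorphisms := inferInstance
  exact (ShortComplex.ShortExact.moduleCat_exact_iff_function_exact _).1 (hS.map (ev B))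

theorem shortExact_apply {S : ShortComplex (Adeq.MVF A)} (hS : S.ShortExact) (B : Adeq.Alg A) :
    Function.Injective (app S.f B) ∧ Function.Surjective (app S.g B) ∧
      Function.Exact (app S.f B) (app S.g B) := by
  refine ⟨mono_iff.1 hS.mono_f B, epi_iff.1 hS.epi_g B, ?_⟩
  exact exact_apply hS.exact B

section Underline

variable {M N P : ModuleCat.{u + 1} A}

/-- `underline M` at `B`, as a tensor product. -/
noncomputable def uEquiv (M : ModuleCat.{u + 1} A) (B : Adeq.Alg A) : Val ((Adeq.underline A).obj M) B ≃ₗ[B] B ⊗[A] M where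
  toFun x := x
  map_add' _ _ := rfl
  map_smul' _ _ := rfl
  invFun x := x
  left_inv _ := rfl
  right_inv _ := rfl

theorem uEquiv_map (g : M ⟶ N) (B : Adeq.Alg A) (x : Val ((Adeq.underline A).obj M) B) :
    uEquiv N B (app ((Adeq.underline A).map g) B x) = g.hom.baseChange B (uEquiv M B x) := rfl

theorem uEquiv_res {B B' : Adeq.Alg A} (f : B ⟶ B') (x : Val ((Adeq.underline A).obj M) B) :
    uEquiv M B' (res ((Adeq.underline A).obj M) f x) = f.hom.toLinearMap.rTensor M (uEquiv M B x) := rfl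

end Underline

/-- A presentation of an adequate functor inside an underlined module. -/
structure Pres (F : Adeq.MVF A) where
  M : ModuleCat.{u + 1} A
  N : ModuleCat.{u + 1} A
  φ : M ⟶ N
  ι : F ⟶ (Adeq.underline A).obj M
  inj : ∀ B, Function.Injective (app ι B)
  mem : ∀ B (x : Val ((Adeq.underline A).obj M) B), app ((Adeq.underline A).map φ) B x = 0 ↔ ∃ y, app ι B y = x

theorem kernel_ι_mem {M N : Adeq.MVF A} (φ : M ⟶ N) (B : Adeq.Alg A) (x : Val M B) :
    app φ B x = 0 ↔ ∃ y, app (kernel.ι φ) B y = x := by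
  exact exact_apply (ShortComplex.exact_of_f_is_kernel
    (ShortComplex.mk (kernel.ι φ) φ (kernel.condition φ)) (kernelIsKernel φ)) B x

theorem kernel_ι_injective {M N : Adeq.MVF A} (φ : M ⟶ N) (B : Adeq.Alg A) :
    Function.Injective (app (kernel.ι φ) B) := mono_iff.1 inferInstance B

theorem cokernel_π_mem {M N : Adeq.MVF A} (φ : M ⟶ N) (B : Adeq.Alg A) (x : Val N B) :
    app (cokernel.π φ) B x = 0 ↔ ∃ y, app φ B y = x := by
  exact exact_apply (ShortComplex.exact_of_g_is_cokernel
    (ShortComplex.mk φ (cokernel.π φ) (cokernel.condition φ)) (cokernelIsCokernel φ)) B x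

theorem cokernel_π_surjective {M N : Adeq.MVF A} (φ : M ⟶ N) (B : Adeq.Alg A) :
    Function.Surjective (app (cokernel.π φ) B) := epi_iff.1 inferInstance B

theorem exists_pres (hF : Adeq.adequate A F) : Nonempty (Pres F) := by
  obtain ⟨M, N, φ, ⟨e⟩⟩ := hF
  refine ⟨⟨M, N, φ, e.hom ≫ kernel.ι _, fun B => mono_iff.1 inferInstance B, fun B x => ?_⟩⟩
  rw [kernel_ι_mem]
  constructor
  · rintro ⟨y, rfl⟩
    exact ⟨app e.inv B y, by rw [app_comp, ← app_comp e.inv, e.inv_hom_id, app_id]⟩
  · rintro ⟨y, rfl⟩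
    exact ⟨app e.hom B y, (app_comp _ _ _ _).symm⟩

theorem Pres.adequate (p : Pres F) : Adeq.adequate A F := by
  have hc : p.ι ≫ (Adeq.underline A).map p.φ = 0 := hom_ext fun B x => by
    rw [app_comp, app_zero, p.mem]
    exact ⟨x, rfl⟩
  have hl : ∀ B x, app (kernel.ι ((Adeq.underline A).map p.φ)) B (app (kernel.lift _ p.ι hc) B x) = app p.ι B x :=
    fun B x => by rw [← app_comp, kernel.lift_ι]
  haveI : IsIso (kernel.lift _ p.ι hc) := isIso_of_bijective fun B => by
    refine ⟨fun a b h => p.inj B (by rw [← hl, h, hl]), fun y => ?_⟩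
    obtain ⟨x, hx⟩ := (p.mem B _).1 ((kernel_ι_mem _ B _).2 ⟨y, rfl⟩)
    exact ⟨x, kernel_ι_injective _ B (by rw [hl, hx])⟩
  exact ⟨p.M, p.N, p.φ, ⟨asIso (kernel.lift _ p.ι hc)⟩⟩

theorem adequate_underline (M : ModuleCat.{u + 1} A) : Adeq.adequate A ((Adeq.underline A).obj M) := by
  refine Pres.adequate ⟨M, M, 0, 𝟙 _, fun B a b h => h, fun B x => ⟨fun _ => ⟨x, rfl⟩, fun _ => ?_⟩⟩
  rw [Functor.map_zero, app_zero]

end Groth.Agent.AdeqLib
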