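import Groth.Agent.AdeqLib.Basic

/-!
# Change of ring for adequate functors
-/

set_option autoImplicit false
set_option backward.isDefEq.respectTransparency false
set_option backward.isDefEq.respectTransparency.types false
set_option maxHeartbeats 800000
universe u

namespace Groth.Agent.AdeqLib

open CategoryTheory Limits Opposite TensorProduct

variable {A : Type u} [CommRing A] (A' : Type u) [CommRing A'] [Algebra A A']

/-- The image of an element in the ambient tensor product. -/
noncomputable def qv {R : Type u} [CommRing R] {F : Adeq.MVF R} (q : Pres F) (B : Adeq.Alg R) :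
    Val F B →ₗ[(B : Type u)] B ⊗[R] q.M := (uEquiv q.M B).toLinearMap ∘ₗ app q.ι B

theorem qv_res {R : Type u} [CommRing R] {F : Adeq.MVF R} (q : Pres F) {B B' : Adeq.Alg R} (f : B ⟶ B') (x : Val F B) :
    qv q B' (res F f x) = f.hom.toLinearMap.rTensor q.M (qv q B x) := by
  show uEquiv q.M B' (app q.ι B' (res F f x)) = _
  rw [app_res, uEquiv_res]
  rfl

theorem qv_injective {R : Type u} [CommRing R] {F : Adeq.MVF R} (q : Pres F) (B : Adeq.Alg R) :
    Function.Injective (qv q B) := (uEquiv q.M B).injective.comp (q.inj B)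

theorem qv_mem {R : Type u} [CommRing R] {F : Adeq.MVF R} (q : Pres F) (B : Adeq.Alg R) (z : B ⊗[R] q.M) :
    q.φ.hom.baseChange B z = 0 ↔ ∃ y, qv q B y = z := by
  constructor
  · intro hz
    obtain ⟨y, hy⟩ := (q.mem B ((uEquiv q.M B).symm z)).1 ((uEquiv q.N B).injective (by
      rw [uEquiv_map, LinearEquiv.apply_symm_apply, map_zero]; exact hz))
    exact ⟨y, by show uEquiv q.M B (app q.ι B y) = z; rw [hy, LinearEquiv.apply_symm_apply]⟩
  · rintro ⟨y, rfl⟩
    have h1 := congrArg (uEquiv q.N B) ((q.mem B _).2 ⟨y, rfl⟩)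
    rwa [uEquiv_map, map_zero] at h1

section Restr

/-- The base change of a module. -/
noncomputable abbrev bcMod (M : ModuleCat.{u + 1} A) : ModuleCat.{u + 1} A' := ModuleCat.of A' (A' ⊗[A] M)

/-- The base change of a map. -/
noncomputable def bcHom {M N : ModuleCat.{u + 1} A} (g : M ⟶ N) : bcMod A' M ⟶ bcMod A' N :=
  ModuleCat.ofHom (g.hom.baseChange A')

/-- Restriction of an underlined module, at an algebra. -/
noncomputable def restrEquiv (M : ModuleCat.{u + 1} A) (B : Adeq.Alg A') :
    ((Adeq.Alg.restr A A').obj B) ⊗[A] M ≃+ B ⊗[A'] (bcMod A' M) :=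
  letI : Algebra A B := ((algebraMap A' B).comp (algebraMap A A')).toAlgebra
  haveI : IsScalarTower A A' B := IsScalarTower.of_algebraMap_eq fun _ => rfl
  (TensorProduct.AlgebraTensorModule.cancelBaseChange A A' A' (B : Type u) M).symm.toAddEquiv

theorem restrEquiv_tmul (M : ModuleCat.{u + 1} A) (B : Adeq.Alg A') (b : (Adeq.Alg.restr A A').obj B) (m : M) :
    restrEquiv A' M B (b ⊗ₜ[A] m) = (b : (B : Type u)) ⊗ₜ[A'] ((1 : A') ⊗ₜ[A] m) := by
  let _ : Algebra A B := ((algebraMap A' B).comp (algebraMap A A')).toAlgebra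
  rfl

theorem restrEquiv_smul (M : ModuleCat.{u + 1} A) (B : Adeq.Alg A') (b : B)
    (z : ((Adeq.Alg.restr A A').obj B) ⊗[A] M) :
    restrEquiv A' M B ((show ((Adeq.Alg.restr A A').obj B) from b) • z) = b • restrEquiv A' M B z := by
  induction z using TensorProduct.induction_on with
  | zero => simp
  | tmul c m => rw [TensorProduct.smul_tmul', restrEquiv_tmul, restrEquiv_tmul, TensorProduct.smul_tmul']
  | add x y hx hy => simp only [map_add, smul_add, hx, hy]

theorem restrEquiv_map {M N : ModuleCat.{u + 1} A} (g : M ⟶ N) (B : Adeq.Alg A')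
    (z : ((Adeq.Alg.restr A A').obj B) ⊗[A] M) :
    restrEquiv A' N B (g.hom.baseChange _ z) = (bcHom A' g).hom.baseChange B (restrEquiv A' M B z) := by
  induction z using TensorProduct.induction_on with
  | zero => simp
  | tmul c m =>
    rw [LinearMap.baseChange_tmul, restrEquiv_tmul, restrEquiv_tmul, LinearMap.baseChange_tmul]
    rfl
  | add x y hx hy => simp only [map_add, hx, hy]

theorem restrEquiv_res (M : ModuleCat.{u + 1} A) {B B' : Adeq.Alg A'} (f : B ⟶ B')
    (z : ((Adeq.Alg.restr A A').obj B) ⊗[A] M) :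
    restrEquiv A' M B' (((Adeq.Alg.restr A A').map f).hom.toLinearMap.rTensor M z) =
      f.hom.toLinearMap.rTensor (bcMod A' M) (restrEquiv A' M B z) := by
  induction z using TensorProduct.induction_on with
  | zero => simp
  | tmul c m => rw [LinearMap.rTensor_tmul, restrEquiv_tmul, restrEquiv_tmul, LinearMap.rTensor_tmul]; rfl
  | add x y hx hy => simp only [map_add, hx, hy]

/-- Presentation of a restriction. -/
noncomputable def restrPres {F : Adeq.MVF A} (q : Pres F) : Pres ((Adeq.restr A A').obj F) where
  M := bcMod A' q.M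
  N := bcMod A' q.N
  φ := bcHom A' q.φ
  ι := homMk (fun B =>
    { toFun := fun x => (uEquiv (bcMod A' q.M) B).symm
        (restrEquiv A' q.M B (qv q ((Adeq.Alg.restr A A').obj B) (show Val F ((Adeq.Alg.restr A A').obj B) from x)))
      map_add' := fun x y => (congrArg (fun v => (uEquiv (bcMod A' q.M) B).symm (restrEquiv A' q.M B v))
        (map_add (qv q ((Adeq.Alg.restr A A').obj B)) (show Val F ((Adeq.Alg.restr A A').obj B) from x) y)).trans (by rw [map_add, map_add])
      map_smul' := fun b x => (congrArg (fun v => (uEquiv (bcMod A' q.M) B).symm (restrEquiv A' q.M B v))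
        (map_smul (qv q ((Adeq.Alg.restr A A').obj B)) (show ((Adeq.Alg.restr A A').obj B) from b) (show Val F ((Adeq.Alg.restr A A').obj B) from x))).trans (by
          rw [restrEquiv_smul, map_smul]; rfl) })
    (fun {B B'} g x => by
      refine (uEquiv (bcMod A' q.M) B').injective ?_
      show restrEquiv A' q.M B' (qv q ((Adeq.Alg.restr A A').obj B') (res F ((Adeq.Alg.restr A A').map g) x)) = _
      rw [qv_res, restrEquiv_res, uEquiv_res]
      rfl)
  inj B x y h := qv_injective q ((Adeq.Alg.restr A A').obj B) ((restrEquiv A' q.M B).injective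
    ((uEquiv (bcMod A' q.M) B).symm.injective h))
  mem B z := by
    constructor
    · intro hz
      obtain ⟨w, hw⟩ : ∃ w, restrEquiv A' q.M B w = uEquiv (bcMod A' q.M) B z := (restrEquiv A' q.M B).surjective _
      obtain ⟨y, hy⟩ := (qv_mem q ((Adeq.Alg.restr A A').obj B) w).1 ((restrEquiv A' q.N B).injective (by
        rw [restrEquiv_map, hw, map_zero]
        have h1 := congrArg (uEquiv (bcMod A' q.N) B) hz
        rwa [uEquiv_map, map_zero] at h1))
      refine ⟨y, (uEquiv (bcMod A' q.M) B).injective ?_⟩
      show restrEquiv A' q.M B (qv q ((Adeq.Alg.restr A A').obj B) y) = _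
      rw [hy, hw]
    · rintro ⟨y, rfl⟩
      refine (uEquiv (bcMod A' q.N) B).injective ?_
      rw [uEquiv_map, map_zero]
      show (bcHom A' q.φ).hom.baseChange B (restrEquiv A' q.M B (qv q ((Adeq.Alg.restr A A').obj B) y)) = 0
      rw [← restrEquiv_map, (qv_mem q _ _).2 ⟨y, rfl⟩, map_zero]

end Restr

section Push

variable {A'}

/-- Restriction of scalars of a module. -/
noncomputable abbrev rsMod (M : ModuleCat.{u + 1} A') : ModuleCat.{u + 1} A :=
  (ModuleCat.restrictScalars (algebraMap A A')).obj M

/-- Pushforward of an underlined module, at an algebra. -/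
noncomputable def pushEquiv (M : ModuleCat.{u + 1} A') (B : Adeq.Alg A) :
    ((Adeq.Alg.baseChange A A').obj B) ⊗[A'] M ≃+ B ⊗[A] (rsMod (A := A) M) :=
  letI : Module A M := Module.compHom M (algebraMap A A')
  haveI : IsScalarTower A A' M := ⟨fun a a' m => by
    show (a • a') • m = algebraMap A A' a • a' • m
    rw [Algebra.smul_def, mul_smul]⟩
  ((TensorProduct.comm A' ((A' : Type u) ⊗[A] (B : Type u)) M).toAddEquiv.trans
    (TensorProduct.AlgebraTensorModule.cancelBaseChange A A' A' M (B : Type u)).toAddEquiv).trans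
    (TensorProduct.comm A M (B : Type u)).toAddEquiv

theorem pushEquiv_tmul (M : ModuleCat.{u + 1} A') (B : Adeq.Alg A) (a : A') (b : B) (m : M) :
    pushEquiv M B ((show ((Adeq.Alg.baseChange A A').obj B) from a ⊗ₜ[A] b) ⊗ₜ[A'] m) =
      b ⊗ₜ[A] (show rsMod (A := A) M from a • m) := by
  rfl

/-- The inclusion of an algebra in its base change. -/
noncomputable abbrev inR (B : Adeq.Alg A) (b : B) : ((Adeq.Alg.baseChange A A').obj B) := (1 : A') ⊗ₜ[A] b

theorem pushEquiv_smul (M : ModuleCat.{u + 1} A') (B : Adeq.Alg A) (b : B)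
    (z : ((Adeq.Alg.baseChange A A').obj B) ⊗[A'] M) :
    pushEquiv M B (inR (A' := A') B b • z) = b • pushEquiv M B z := by
  induction z using TensorProduct.induction_on with
  | zero => simp
  | tmul c m =>
    induction c using TensorProduct.induction_on with
    | zero => simp
    | tmul a b' =>
      rw [TensorProduct.smul_tmul', smul_eq_mul, pushEquiv_tmul, TensorProduct.smul_tmul', smul_eq_mul]
      rw [Algebra.TensorProduct.tmul_mul_tmul, one_mul]
      exact pushEquiv_tmul M B a (b * b') m
    | add x y hx hy => simp only [TensorProduct.add_tmul, smul_add, map_add, hx, hy]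
  | add x y hx hy => simp only [map_add, smul_add, hx, hy]

theorem pushEquiv_map {M N : ModuleCat.{u + 1} A'} (g : M ⟶ N) (B : Adeq.Alg A)
    (z : ((Adeq.Alg.baseChange A A').obj B) ⊗[A'] M) :
    pushEquiv N B (g.hom.baseChange _ z) =
      ((ModuleCat.restrictScalars (algebraMap A A')).map g).hom.baseChange B (pushEquiv M B z) := by
  induction z using TensorProduct.induction_on with
  | zero => simp
  | tmul c m =>
    induction c using TensorProduct.induction_on with
    | zero => simp
    | tmul a b' =>
      rw [LinearMap.baseChange_tmul]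
      refine (pushEquiv_tmul N B a b' (g.hom m)).trans ?_
      rw [pushEquiv_tmul, LinearMap.baseChange_tmul]
      exact congrArg (fun v : rsMod (A := A) N => b' ⊗ₜ[A] v) (g.hom.map_smul a m).symm
    | add x y hx hy => simp only [TensorProduct.add_tmul, map_add, hx, hy]
  | add x y hx hy => simp only [map_add, hx, hy]

theorem pushEquiv_res (M : ModuleCat.{u + 1} A') {B B' : Adeq.Alg A} (f : B ⟶ B')
    (z : ((Adeq.Alg.baseChange A A').obj B) ⊗[A'] M) :
    pushEquiv M B' (((Adeq.Alg.baseChange A A').map f).hom.toLinearMap.rTensor M z) =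
      f.hom.toLinearMap.rTensor (rsMod (A := A) M) (pushEquiv M B z) := by
  induction z using TensorProduct.induction_on with
  | zero => simp
  | tmul c m =>
    induction c using TensorProduct.induction_on with
    | zero => simp
    | tmul a b' =>
      rw [LinearMap.rTensor_tmul]
      refine (pushEquiv_tmul M B' a (f.hom b') m).trans ?_
      rw [pushEquiv_tmul, LinearMap.rTensor_tmul]
      rfl
    | add x y hx hy => simp only [TensorProduct.add_tmul, map_add, hx, hy]
  | add x y hx hy => simp only [map_add, hx, hy]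

/-- Presentation of a pushforward. -/
noncomputable def pushPres {F : Adeq.MVF A'} (q : Pres F) : Pres ((Adeq.push A A').obj F) where
  M := rsMod q.M
  N := rsMod q.N
  φ := (ModuleCat.restrictScalars (algebraMap A A')).map q.φ
  ι := homMk (fun B =>
    { toFun := fun x => (uEquiv (rsMod (A := A) q.M) B).symm
        (pushEquiv q.M B (qv q ((Adeq.Alg.baseChange A A').obj B) (show Val F ((Adeq.Alg.baseChange A A').obj B) from x)))
      map_add' := fun x y => (congrArg (fun v => (uEquiv (rsMod (A := A) q.M) B).symm (pushEquiv q.M B v))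
        (map_add (qv q ((Adeq.Alg.baseChange A A').obj B)) (show Val F ((Adeq.Alg.baseChange A A').obj B) from x) y)).trans (by rw [map_add, map_add])
      map_smul' := fun b x => (congrArg (fun v => (uEquiv (rsMod (A := A) q.M) B).symm (pushEquiv q.M B v))
        (map_smul (qv q ((Adeq.Alg.baseChange A A').obj B)) (inR (A := A) B b) (show Val F ((Adeq.Alg.baseChange A A').obj B) from x))).trans (by
          rw [pushEquiv_smul, map_smul]; rfl) })
    (fun {B B'} g x => by
      refine (uEquiv (rsMod (A := A) q.M) B').injective ?_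
      show pushEquiv q.M B' (qv q ((Adeq.Alg.baseChange A A').obj B') (res F ((Adeq.Alg.baseChange A A').map g) x)) = _
      rw [qv_res, pushEquiv_res, uEquiv_res]
      rfl)
  inj B x y h := qv_injective q ((Adeq.Alg.baseChange A A').obj B) ((pushEquiv q.M B).injective
    ((uEquiv (rsMod (A := A) q.M) B).symm.injective h))
  mem B z := by
    constructor
    · intro hz
      obtain ⟨w, hw⟩ : ∃ w, pushEquiv q.M B w = uEquiv (rsMod (A := A) q.M) B z := (pushEquiv q.M B).surjective _
      obtain ⟨y, hy⟩ := (qv_mem q ((Adeq.Alg.baseChange A A').obj B) w).1 ((pushEquiv q.N B).injective (by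
        rw [pushEquiv_map, hw, map_zero]
        have h1 := congrArg (uEquiv (rsMod (A := A) q.N) B) hz
        rwa [uEquiv_map, map_zero] at h1))
      refine ⟨y, (uEquiv (rsMod (A := A) q.M) B).injective ?_⟩
      show pushEquiv q.M B (qv q ((Adeq.Alg.baseChange A A').obj B) y) = _
      rw [hy, hw]
    · rintro ⟨y, rfl⟩
      refine (uEquiv (rsMod (A := A) q.N) B).injective ?_
      rw [uEquiv_map, map_zero]
      show ((ModuleCat.restrictScalars (algebraMap A A')).map q.φ).hom.baseChange B (pushEquiv q.M B (qv q ((Adeq.Alg.baseChange A A').obj B) y)) = 0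
      rw [← pushEquiv_map, (qv_mem q _ _).2 ⟨y, rfl⟩, map_zero]

end Push

end Groth.Agent.AdeqLib
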