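import Groth.Agent.AdeqLib.Std

/-!
# Closure properties of adequate functors
-/

set_option autoImplicit false
set_option backward.isDefEq.respectTransparency false
universe u

namespace Groth.Agent.AdeqLib

open CategoryTheory Limits Opposite TensorProduct

variable {A : Type u} [CommRing A]

section RelQuot

variable {S : Type (u + 1)} (m n : S → ℕ) (a : ∀ s, Fin (m s) → Fin (n s) → A) {W : Type (u + 1)}
  [AddCommGroup W] [Module A W] (ν : ∀ s, Fin (n s) → W)

/-- The relations of a family of systems. -/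
noncomputable def relMap : ((Σ s, Fin (n s)) →₀ A) →ₗ[A] ((Σ s, Fin (m s)) →₀ A) × W :=
  Finsupp.linearCombination A fun k => (∑ j, Finsupp.single ⟨k.1, j⟩ (a k.1 j k.2), ν k.1 k.2)

/-- The module glued from a family of systems. -/
noncomputable abbrev RelQuot : Type (u + 1) := (((Σ s, Fin (m s)) →₀ A) × W) ⧸ LinearMap.range (relMap m n a ν)

/-- The canonical map. -/
noncomputable def relIn : W →ₗ[A] RelQuot m n a ν :=
  (LinearMap.range (relMap m n a ν)).mkQ ∘ₗ LinearMap.inr A _ W

theorem lTensor_relIn_eq_zero_iff (B : Adeq.Alg A) (w : B ⊗[A] W) :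
    (relIn m n a ν).lTensor B w = 0 ↔ ∃ p : (Σ s, Fin (n s)) →₀ B,
      (∀ s, IsSol (a s) B fun i => p ⟨s, i⟩) ∧ w = ∑ k ∈ p.support, p k ⊗ₜ[A] ν k.1 k.2 := by
  classical
  let h := relMap m n a ν
  have hexact : Function.Exact (h.lTensor B) ((LinearMap.range h).mkQ.lTensor B) :=
    lTensor_exact (M := (Σ s, Fin (n s)) →₀ A) (N := ((Σ s, Fin (m s)) →₀ A) × W) B
      (LinearMap.exact_map_mkQ_range h) (Submodule.mkQ_surjective _)
  have hrepr : ∀ q : B ⊗[A] ((Σ s, Fin (n s)) →₀ A), q = ∑ k ∈ (TensorProduct.finsuppScalarRight A A B _ q).support,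
      TensorProduct.finsuppScalarRight A A B _ q k ⊗ₜ[A] Finsupp.single k (1 : A) := by
    intro q
    refine (TensorProduct.finsuppScalarRight A A B _).injective ?_
    conv_lhs => rw [← Finsupp.sum_single (TensorProduct.finsuppScalarRight A A B _ q)]
    rw [map_sum]
    refine Finset.sum_congr rfl fun k _ => Finsupp.ext fun l => ?_
    rw [TensorProduct.finsuppScalarRight_apply_tmul_apply, Finsupp.single_apply, Finsupp.single_apply]
    split_ifs <;> simp
  have hfst : ∀ (p : (Σ s, Fin (n s)) →₀ B) (s : S) (j : Fin (m s)),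
      TensorProduct.finsuppScalarRight A A B _ ((LinearMap.fst A _ W ∘ₗ h).lTensor B
        (∑ k ∈ p.support, p k ⊗ₜ[A] Finsupp.single k (1 : A))) ⟨s, j⟩ = ∑ i, a s j i • p ⟨s, i⟩ := by
    intro p s j
    simp only [map_sum, Finsupp.finsetSum_apply, LinearMap.lTensor_tmul,
      TensorProduct.finsuppScalarRight_apply_tmul_apply]
    have hterm : ∀ k : Σ s, Fin (n s), ((LinearMap.fst A _ W ∘ₗ h) (Finsupp.single k 1)) ⟨s, j⟩ • p k =
        if hks : k.1 = s then a s j (hks ▸ k.2) • p k else 0 := by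
      rintro ⟨s', i⟩
      simp only [LinearMap.comp_apply, LinearMap.fst_apply, h, relMap, Finsupp.linearCombination_single, one_smul,
        Finsupp.finsetSum_apply]
      split_ifs with hks
      · subst hks
        rw [Finset.sum_eq_single j]
        · rw [Finsupp.single_eq_same]
        · exact fun l _ hl => Finsupp.single_eq_of_ne fun e => hl (by simpa using e.symm)
        · simp
      · rw [Finset.sum_eq_zero fun l _ => Finsupp.single_eq_of_ne fun e => hks (congrArg Sigma.fst e).symm, zero_smul]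
    simp only [hterm]
    have hsub : p.support ⊆ p.support ∪ (Finset.univ.image fun i => (⟨s, i⟩ : Σ s, Fin (n s))) :=
      Finset.subset_union_left
    rw [Finset.sum_subset hsub fun k _ hk => by simp [Finsupp.notMem_support_iff.1 hk]]
    refine (Finset.sum_subset Finset.subset_union_right fun k _ hk => ?_).symm.trans ?_
    · rw [dif_neg]
      rintro rfl
      exact hk (Finset.mem_image.2 ⟨k.2, Finset.mem_univ _, rfl⟩)
    · rw [Finset.sum_image fun i _ i' _ e => eq_of_heq (Sigma.mk.inj e).2]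
      exact Finset.sum_congr rfl fun i _ => by rw [dif_pos rfl]
  have hsnd : ∀ (p : (Σ s, Fin (n s)) →₀ B), (LinearMap.snd A _ W ∘ₗ h).lTensor B
      (∑ k ∈ p.support, p k ⊗ₜ[A] Finsupp.single k (1 : A)) = ∑ k ∈ p.support, p k ⊗ₜ[A] ν k.1 k.2 := by
    intro p
    rw [map_sum]
    exact Finset.sum_congr rfl fun k _ => by simp [h, relMap]
  rw [relIn, LinearMap.lTensor_comp_apply]
  constructor
  · intro hw
    obtain ⟨q, hq⟩ := (hexact _).1 hw
    refine ⟨TensorProduct.finsuppScalarRight A A B _ q, fun s j => ?_, ?_⟩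
    · rw [← hfst, ← hrepr, LinearMap.lTensor_comp_apply, hq, ← LinearMap.lTensor_comp_apply,
        LinearMap.fst_comp_inr, LinearMap.lTensor_zero]
      simp
    · rw [← hsnd, ← hrepr, LinearMap.lTensor_comp_apply, hq, ← LinearMap.lTensor_comp_apply,
        LinearMap.snd_comp_inr, LinearMap.lTensor_id, LinearMap.id_apply]
  · rintro ⟨p, hp, rfl⟩
    refine (hexact _).2 ⟨∑ k ∈ p.support, p k ⊗ₜ[A] Finsupp.single k (1 : A), ?_⟩
    have hdecomp : ∀ z : B ⊗[A] (((Σ s, Fin (m s)) →₀ A) × W),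
        z = (LinearMap.inl A _ W).lTensor B ((LinearMap.fst A _ W).lTensor B z) +
          (LinearMap.inr A _ W).lTensor B ((LinearMap.snd A _ W).lTensor B z) := by
      intro z
      rw [← LinearMap.lTensor_comp_apply, ← LinearMap.lTensor_comp_apply, ← LinearMap.add_apply,
        ← LinearMap.lTensor_add]
      have : LinearMap.inl A ((Σ s, Fin (m s)) →₀ A) W ∘ₗ LinearMap.fst A _ W +
          LinearMap.inr A _ W ∘ₗ LinearMap.snd A _ W = LinearMap.id := by
        refine LinearMap.ext fun x => ?_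
        simp
      rw [this, LinearMap.lTensor_id, LinearMap.id_apply]
    have e1 : ∀ z, (LinearMap.fst A _ W).lTensor B (h.lTensor B z) = (LinearMap.fst A _ W ∘ₗ h).lTensor B z :=
      fun z => (LinearMap.lTensor_comp_apply ..).symm
    have e2 : ∀ z, (LinearMap.snd A _ W).lTensor B (h.lTensor B z) = (LinearMap.snd A _ W ∘ₗ h).lTensor B z :=
      fun z => (LinearMap.lTensor_comp_apply ..).symm
    rw [hdecomp (h.lTensor B _), e1, e2, hsnd,
      show (LinearMap.fst A _ W ∘ₗ h).lTensor B (∑ k ∈ p.support, p k ⊗ₜ[A] Finsupp.single k (1 : A)) = 0 from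
        (TensorProduct.finsuppScalarRight A A B _).injective (Finsupp.ext fun ⟨s, j⟩ => by
          rw [hfst, map_zero, Finsupp.zero_apply]; exact hp s j), map_zero, zero_add]

end RelQuot

variable {F G H : Adeq.MVF A}

/-- The systems mapping into a functor. -/
abbrev sysM (s : Idx F) : ℕ := s.1.1

/-- The systems mapping into a functor. -/
abbrev sysN (s : Idx F) : ℕ := s.1.2

/-- The systems mapping into a functor. -/
abbrev sysA (s : Idx F) : Fin (sysM s) → Fin (sysN s) → A := s.2.1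

/-- The combination of elements of the systems. -/
theorem exists_combo (B : Adeq.Alg A) (p : (Σ s : Idx F, Fin (sysN s)) →₀ B)
    (hp : ∀ s, IsSol (sysA s) B fun i => p ⟨s, i⟩) :
    ∃ z : Val F B, ∀ (M : ModuleCat.{u + 1} A) (φ : F ⟶ (Adeq.underline A).obj M) (μ : ∀ s, Fin (sysN s) → M),
      (∀ (s : Idx F) (B : Adeq.Alg A) (x : Val (stdL (sysA s)) B), uEquiv M B (app φ B (app s.2.2 B x)) =
        ∑ i, (stdPres (sysA s)).co B x i ⊗ₜ[A] μ s i) →
      uEquiv M B (app φ B z) = ∑ k ∈ p.support, p k ⊗ₜ[A] μ k.1 k.2 := by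
  classical
  refine ⟨∑ s ∈ p.support.image Sigma.fst, app s.2.2 B ((stdPres (sysA s)).elt (fun i => p ⟨s, i⟩) (hp s)),
    fun M φ μ hμ => ?_⟩
  rw [map_sum, map_sum]
  have h1 : ∀ s : Idx F, uEquiv M B (app φ B (app s.2.2 B ((stdPres (sysA s)).elt (fun i => p ⟨s, i⟩) (hp s)))) =
      ∑ i, p ⟨s, i⟩ ⊗ₜ[A] μ s i := fun s => by rw [hμ, (stdPres (sysA s)).co_elt]; rfl
  simp only [h1]
  rw [← Finset.sum_sigma (p.support.image Sigma.fst) (fun s => (Finset.univ : Finset (Fin (sysN s)))) fun k => p k ⊗ₜ[A] μ k.1 k.2]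
  refine (Finset.sum_subset (fun k hk => Finset.mem_sigma.2 ⟨Finset.mem_image_of_mem _ hk, Finset.mem_univ k.2⟩)
    fun k _ hk => ?_).symm
  rw [Finsupp.notMem_support_iff.1 hk, TensorProduct.zero_tmul]

/-- Choose extensions of a map on all systems. -/
theorem exists_coeffs (M : ModuleCat.{u + 1} A) (φ : F ⟶ (Adeq.underline A).obj M) :
    ∃ μ : ∀ s : Idx F, Fin (sysN s) → M, ∀ (s : Idx F) (B : Adeq.Alg A) (x : Val (stdL (sysA s)) B),
      uEquiv M B (app φ B (app s.2.2 B x)) = ∑ i, (stdPres (sysA s)).co B x i ⊗ₜ[A] μ s i := by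
  choose μ hμ using fun s : Idx F => (stdPres (sysA s)).exists_coeff M (s.2.2 ≫ φ)
  exact ⟨μ, fun s B x => by rw [← app_comp]; exact hμ s B x⟩

theorem lTensor_zero_of_gen {W : Type (u + 1)} [AddCommGroup W] [Module A W] (ν : ∀ s : Idx F, Fin (sysN s) → W)
    (s : Idx F) (B : Adeq.Alg A) (y : Fin (sysN s) → B) (hy : IsSol (sysA s) B y) :
    (relIn sysM sysN sysA ν).lTensor B (∑ i, y i ⊗ₜ[A] ν s i) = 0 := by
  classical
  rw [lTensor_relIn_eq_zero_iff]
  let p : (Σ s : Idx F, Fin (sysN s)) →₀ B := ∑ i, Finsupp.single ⟨s, i⟩ (y i)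
  have hps : ∀ i, p ⟨s, i⟩ = y i := fun i => by
    simp [p, Finsupp.finsetSum_apply, Finsupp.single_apply, Sigma.mk.inj_iff]
  have hpt : ∀ s' i, s' ≠ s → p ⟨s', i⟩ = 0 := fun s' i h => by
    simp only [p, Finsupp.finsetSum_apply]
    exact Finset.sum_eq_zero fun l _ => Finsupp.single_eq_of_ne fun e => h (congrArg Sigma.fst e)
  refine ⟨p, fun s' => ?_, ?_⟩
  · by_cases h : s' = s
    · subst h; simpa only [hps] using hy
    · intro j; simp [hpt _ _ h]
  · rw [Finset.sum_subset (Finset.subset_union_left (s₂ := Finset.univ.image fun i => (⟨s, i⟩ : Σ s : Idx F, Fin (sysN s))))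
      fun k _ hk => by rw [Finsupp.notMem_support_iff.1 hk, TensorProduct.zero_tmul]]
    refine Eq.trans ?_ (Finset.sum_subset Finset.subset_union_right fun k _ hk => ?_)
    · rw [Finset.sum_image fun i _ i' _ e => eq_of_heq (Sigma.mk.inj e).2]
      simp only [hps]
    · obtain ⟨s', i⟩ := k
      rw [hpt _ _ (fun h => hk (by subst h; exact Finset.mem_image.2 ⟨i, Finset.mem_univ _, rfl⟩)),
        TensorProduct.zero_tmul]

/-- The cokernel of a map from an adequate functor into an underlined module is adequate. -/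
theorem adequate_cokernel_underline (hF : Adeq.adequate A F) (M : ModuleCat.{u + 1} A)
    (φ : F ⟶ (Adeq.underline A).obj M) : Adeq.adequate A (cokernel φ) := by
  classical
  obtain ⟨μ, hμ⟩ := exists_coeffs M φ
  let QM : ModuleCat.{u + 1} A := ModuleCat.of A (RelQuot sysM sysN sysA μ)
  let jM : M ⟶ QM := ModuleCat.ofHom (relIn sysM sysN sysA μ)
  let C : ModuleCat.{u + 1} A := ModuleCat.of A (QM ⧸ LinearMap.range jM.hom)
  let φC : QM ⟶ C := ModuleCat.ofHom (LinearMap.range jM.hom).mkQ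
  have hker : ∀ B x, app ((Adeq.underline A).map jM) B x = 0 ↔ ∃ y, app φ B y = x := by
    intro B x
    constructor
    · intro hx
      have h1 : (relIn sysM sysN sysA μ).lTensor B (uEquiv M B x) = 0 := by
        have := congrArg (uEquiv QM B) hx
        rwa [uEquiv_map, map_zero] at this
      obtain ⟨p, hp, hw⟩ := (lTensor_relIn_eq_zero_iff sysM sysN sysA μ B _).1 h1
      obtain ⟨z, hz⟩ := exists_combo B p hp
      exact ⟨z, (uEquiv M B).injective ((hz M φ μ hμ).trans hw.symm)⟩
    · rintro ⟨y, rfl⟩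
      obtain ⟨m, n, a, lam, x, rfl⟩ := exists_gen hF B y
      refine (uEquiv QM B).injective ?_
      rw [uEquiv_map, map_zero, hμ ⟨(m, n), a, lam⟩ B x]
      exact lTensor_zero_of_gen μ ⟨(m, n), a, lam⟩ B _ ((stdPres a).isSol x)
  have hcond : φ ≫ (Adeq.underline A).map jM = 0 := hom_ext fun B y => by
    rw [app_comp, app_zero, hker]; exact ⟨y, rfl⟩
  let ι := cokernel.desc φ _ hcond
  have hι : ∀ B x, app ι B (app (cokernel.π φ) B x) = app ((Adeq.underline A).map jM) B x := fun B x => by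
    rw [← app_comp, cokernel.π_desc]
  refine Pres.adequate ⟨QM, C, φC, ι, fun B => ?_, fun B x => ?_⟩
  · rw [injective_iff_map_eq_zero]
    intro z hz
    obtain ⟨x, rfl⟩ := cokernel_π_surjective φ B z
    rw [hι, hker] at hz
    exact (cokernel_π_mem φ B x).2 hz
  · have hexact : Function.Exact (jM.hom.lTensor B) (φC.hom.lTensor B) :=
      lTensor_exact (M := M) (N := QM) B (LinearMap.exact_map_mkQ_range jM.hom) (Submodule.mkQ_surjective _)
    constructor
    · intro hx
      have h1 : φC.hom.lTensor B (uEquiv QM B x) = 0 := by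
        have := congrArg (uEquiv C B) hx
        rwa [uEquiv_map, map_zero] at this
      obtain ⟨w, hw⟩ := (hexact _).1 h1
      refine ⟨app (cokernel.π φ) B ((uEquiv M B).symm w), (uEquiv QM B).injective ?_⟩
      rw [hι, uEquiv_map, LinearEquiv.apply_symm_apply]
      exact hw
    · rintro ⟨y, rfl⟩
      obtain ⟨z, rfl⟩ := cokernel_π_surjective φ B y
      refine (uEquiv C B).injective ?_
      rw [hι, uEquiv_map, uEquiv_map, map_zero]
      exact hexact.apply_apply_eq_zero _

/-- The kernel of a map from an adequate functor into an underlined module is adequate. -/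
theorem adequate_kernel_underline (hF : Adeq.adequate A F) (M : ModuleCat.{u + 1} A)
    (φ : F ⟶ (Adeq.underline A).obj M) : Adeq.adequate A (kernel φ) := by
  classical
  obtain ⟨q⟩ := exists_pres hF
  obtain ⟨μ, hμ⟩ := exists_coeffs M φ
  obtain ⟨μ₁, hμ₁⟩ := exists_coeffs q.M q.ι
  let ν : ∀ s : Idx F, Fin (sysN s) → q.M × M := fun s i => (μ₁ s i, -μ s i)
  let N' : ModuleCat.{u + 1} A := ModuleCat.of A (q.N × RelQuot sysM sysN sysA ν)
  let ψ : q.M ⟶ N' := ModuleCat.ofHom (q.φ.hom.prod (relIn sysM sysN sysA ν ∘ₗ LinearMap.inl A q.M M))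
  have hψ : ∀ (B : Adeq.Alg A) (w : B ⊗[A] q.M), ψ.hom.lTensor B w = 0 ↔ q.φ.hom.lTensor B w = 0 ∧
      (relIn sysM sysN sysA ν).lTensor B ((LinearMap.inl A q.M M).lTensor B w) = 0 := by
    intro B w
    refine ⟨fun h => ⟨?_, ?_⟩, fun h => ?_⟩
    · rw [show q.φ.hom = LinearMap.fst A _ _ ∘ₗ ψ.hom from rfl, LinearMap.lTensor_comp_apply, h, map_zero]
    · rw [← LinearMap.lTensor_comp_apply, show relIn sysM sysN sysA ν ∘ₗ LinearMap.inl A q.M M =
        LinearMap.snd A _ _ ∘ₗ ψ.hom from rfl, LinearMap.lTensor_comp_apply, h, map_zero]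
    · have : ψ.hom = LinearMap.inl A _ _ ∘ₗ q.φ.hom + LinearMap.inr A _ _ ∘ₗ (relIn sysM sysN sysA ν ∘ₗ
          LinearMap.inl A q.M M) := LinearMap.ext fun x => Prod.ext (add_zero _).symm (zero_add _).symm
      rw [this, LinearMap.lTensor_add, LinearMap.add_apply, LinearMap.lTensor_comp_apply, h.1, map_zero, zero_add,
        LinearMap.lTensor_comp_apply, LinearMap.lTensor_comp_apply, h.2, map_zero]
  have hkey : ∀ B (x : Val F B), (relIn sysM sysN sysA ν).lTensor B
      ((LinearMap.inl A q.M M).lTensor B (uEquiv q.M B (app q.ι B x))) =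
      (relIn sysM sysN sysA ν).lTensor B ((LinearMap.inr A q.M M).lTensor B (uEquiv M B (app φ B x))) := by
    intro B x
    obtain ⟨m, n, a, lam, y, rfl⟩ := exists_gen hF B x
    rw [← sub_eq_zero, ← map_sub, hμ ⟨(m, n), a, lam⟩, hμ₁ ⟨(m, n), a, lam⟩]
    refine Eq.trans (congrArg _ ?_) (lTensor_zero_of_gen ν ⟨(m, n), a, lam⟩ B _ ((stdPres a).isSol y))
    simp only [map_sum, LinearMap.lTensor_tmul, ← Finset.sum_sub_distrib, ← TensorProduct.tmul_sub]
    refine Finset.sum_congr rfl fun i _ => congrArg _ ?_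
    simp [ν]
  refine Pres.adequate ⟨q.M, N', ψ, kernel.ι φ ≫ q.ι, fun B => (q.inj B).comp (kernel_ι_injective φ B),
    fun B x => ?_⟩
  have hx : app ((Adeq.underline A).map ψ) B x = 0 ↔ ψ.hom.lTensor B (uEquiv q.M B x) = 0 :=
    ⟨fun h => by have := congrArg (uEquiv N' B) h; rwa [uEquiv_map, map_zero] at this,
      fun h => (uEquiv N' B).injective (by rw [uEquiv_map, map_zero]; exact h)⟩
  rw [hx, hψ]
  constructor
  · rintro ⟨h1, h2⟩
    obtain ⟨y, rfl⟩ := (q.mem B x).1 ((uEquiv q.N B).injective (by rw [uEquiv_map, map_zero]; exact h1))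
    rw [hkey, ← LinearMap.lTensor_comp_apply] at h2
    rw [LinearMap.lTensor_comp_apply] at h2
    obtain ⟨p, hp, hw⟩ := (lTensor_relIn_eq_zero_iff sysM sysN sysA ν B _).1 h2
    obtain ⟨z, hz⟩ := exists_combo B p hp
    have hz1 : app q.ι B z = 0 := (uEquiv q.M B).injective (by
      have h3 := congrArg ((LinearMap.fst A q.M M).lTensor B) hw
      rw [← LinearMap.lTensor_comp_apply, LinearMap.fst_comp_inr, LinearMap.lTensor_zero, LinearMap.zero_apply,
        map_sum] at h3
      rw [hz q.M q.ι μ₁ hμ₁, map_zero, h3]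
      exact Finset.sum_congr rfl fun k _ => by simp [ν])
    have hz0 : z = 0 := q.inj B (hz1.trans (map_zero _).symm)
    have hφy : app φ B y = 0 := (uEquiv M B).injective (by
      have h3 := congrArg ((LinearMap.snd A q.M M).lTensor B) hw
      rw [← LinearMap.lTensor_comp_apply, LinearMap.snd_comp_inr, LinearMap.lTensor_id, LinearMap.id_apply,
        map_sum] at h3
      have h4 := hz M φ μ hμ
      rw [hz0, map_zero, map_zero] at h4
      rw [h3, map_zero, ← neg_zero, h4, ← Finset.sum_neg_distrib]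
      exact Finset.sum_congr rfl fun k _ => by simp [ν, TensorProduct.tmul_neg])
    obtain ⟨w, rfl⟩ := (kernel_ι_mem φ B y).1 hφy
    exact ⟨w, rfl⟩
  · rintro ⟨w, rfl⟩
    refine ⟨?_, ?_⟩
    · have h1 := congrArg (uEquiv q.N B) ((q.mem B (app (kernel.ι φ ≫ q.ι) B w)).2 ⟨app (kernel.ι φ) B w, rfl⟩)
      rwa [uEquiv_map, map_zero] at h1
    · rw [app_comp, hkey, (kernel_ι_mem φ B _).2 ⟨w, rfl⟩, map_zero, map_zero, map_zero]

theorem adequate_of_iso {F G : Adeq.MVF A} (e : F ≅ G) (hF : Adeq.adequate A F) : Adeq.adequate A G :=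
  (Adeq.adequate A).prop_of_iso e hF

/-- Kernels of maps of adequate functors are adequate. -/
theorem adequate_kernel (hF : Adeq.adequate A F) (hG : Adeq.adequate A G) (φ : F ⟶ G) :
    Adeq.adequate A (kernel φ) := by
  obtain ⟨q⟩ := exists_pres hG
  haveI := mono_iff.2 q.inj
  exact adequate_of_iso (kernelCompMono φ q.ι) (adequate_kernel_underline hF q.M (φ ≫ q.ι))

/-- A functor inside an adequate one is adequate if it is the kernel of a map of adequate functors. -/
theorem adequate_of_exact (ι : H ⟶ F) (π : F ⟶ G) (hF : Adeq.adequate A F) (hG : Adeq.adequate A G)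
    (hinj : ∀ B, Function.Injective (app ι B)) (hex : ∀ B, Function.Exact (app ι B) (app π B)) :
    Adeq.adequate A H := by
  have hc : ι ≫ π = 0 := hom_ext fun B x => by rw [app_comp, app_zero]; exact (hex B).apply_apply_eq_zero x
  have hl : ∀ B x, app (kernel.ι π) B (app (kernel.lift π ι hc) B x) = app ι B x := fun B x => by
    rw [← app_comp, kernel.lift_ι]
  haveI : IsIso (kernel.lift π ι hc) := isIso_of_bijective fun B => by
    refine ⟨fun a b h => hinj B (by rw [← hl, h, hl]), fun y => ?_⟩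
    obtain ⟨x, hx⟩ := (hex B _).1 ((kernel_ι_mem π B _).2 ⟨y, rfl⟩)
    exact ⟨x, kernel_ι_injective π B (by rw [hl, hx])⟩
  exact adequate_of_iso (asIso (kernel.lift π ι hc)).symm (adequate_kernel hF hG π)

/-- Cokernels of maps of adequate functors are adequate. -/
theorem adequate_cokernel (hF : Adeq.adequate A F) (hG : Adeq.adequate A G) (φ : F ⟶ G) :
    Adeq.adequate A (cokernel φ) := by
  obtain ⟨q⟩ := exists_pres hG
  have hqφ : q.ι ≫ (Adeq.underline A).map q.φ = 0 := hom_ext fun B x => by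
    rw [app_comp, app_zero]; exact (q.mem B _).2 ⟨x, rfl⟩
  let π := cokernel.desc (φ ≫ q.ι) ((Adeq.underline A).map q.φ) (by rw [Category.assoc, hqφ, comp_zero])
  let ι := cokernel.map φ (φ ≫ q.ι) (𝟙 F) q.ι (by simp)
  have hι : ∀ B x, app ι B (app (cokernel.π φ) B x) = app (cokernel.π (φ ≫ q.ι)) B (app q.ι B x) := fun B x => by
    rw [← app_comp, cokernel.π_desc, app_comp]
  have hπ : ∀ B x, app π B (app (cokernel.π (φ ≫ q.ι)) B x) = app ((Adeq.underline A).map q.φ) B x := fun B x => by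
    rw [← app_comp, cokernel.π_desc]
  refine adequate_of_exact ι π (adequate_cokernel_underline hF q.M (φ ≫ q.ι)) (adequate_underline q.N)
    (fun B => ?_) fun B z => ?_
  · rw [injective_iff_map_eq_zero]
    intro z hz
    obtain ⟨x, rfl⟩ := cokernel_π_surjective φ B z
    rw [hι, cokernel_π_mem] at hz
    obtain ⟨y, hy⟩ := hz
    exact (cokernel_π_mem φ B x).2 ⟨y, q.inj B (by rw [← app_comp]; exact hy)⟩
  · constructor
    · intro hz
      obtain ⟨x, rfl⟩ := cokernel_π_surjective (φ ≫ q.ι) B z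
      rw [hπ, q.mem] at hz
      obtain ⟨y, rfl⟩ := hz
      exact ⟨app (cokernel.π φ) B y, hι B y⟩
    · rintro ⟨w, rfl⟩
      obtain ⟨x, rfl⟩ := cokernel_π_surjective φ B w
      rw [hι, hπ, q.mem]
      exact ⟨x, rfl⟩

end Groth.Agent.AdeqLib
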