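import Groth.Agent.AdeqLib.Closure

/-!
# Direct sums and colimits of adequate functors
-/

set_option autoImplicit false
set_option backward.isDefEq.respectTransparency false
universe u

namespace Groth.Agent.AdeqLib

open CategoryTheory Limits Opposite TensorProduct DirectSum

variable {A : Type u} [CommRing A]

/-- The elements of a colimit are spanned by the images. -/
theorem colimit_span {J : Type (u + 1)} [SmallCategory J] (D : J ⥤ Adeq.MVF A) (B : Adeq.Alg A) :
    ⨆ j, LinearMap.range (app (colimit.ι D j) B) = ⊤ := by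
  let S : Submodule B (Val (colimit D) B) := ⨆ j, LinearMap.range (app (colimit.ι D j) B)
  haveI : PreservesColimitsOfShape J (ev B) :=
    PresheafOfModules.evaluation_preservesColimitsOfShape _ _ _
  have hc := isColimitOfPreserves (ev B) (colimit.isColimit D)
  have h0 : (ModuleCat.ofHom S.mkQ : (ev B).obj (colimit D) ⟶ ModuleCat.of B (Val (colimit D) B ⧸ S)) = 0 := by
    refine hc.hom_ext fun j => ?_
    refine ModuleCat.hom_ext (LinearMap.ext fun x => ?_)
    refine (Submodule.Quotient.mk_eq_zero S).2 ?_
    exact Submodule.mem_iSup_of_mem j ⟨x, rfl⟩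
  refine eq_top_iff.2 fun x _ => (Submodule.Quotient.mk_eq_zero S).1 ?_
  exact congrArg (fun f => f.hom x) h0

section Coprod

variable {I : Type (u + 1)} (L : I → Adeq.MVF A)

theorem exists_sum_ι (B : Adeq.Alg A) (x : Val (∐ L) B) :
    ∃ (s : Finset I) (c : ∀ i, Val (L i) B), ∑ i ∈ s, app (Sigma.ι L i) B (c i) = x := by
  classical
  have hx : x ∈ ⨆ j : Discrete I, LinearMap.range (app (colimit.ι (Discrete.functor L) j) B) := by
    rw [colimit_span]; exact Submodule.mem_top
  induction hx using Submodule.iSup_induction' with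
  | mem j y hy =>
    obtain ⟨c, rfl⟩ := hy
    refine ⟨{j.as}, Pi.single j.as c, ?_⟩
    rw [Finset.sum_singleton, Pi.single_eq_same]
    rfl
  | zero => exact ⟨∅, 0, rfl⟩
  | add y z _ _ hy hz =>
    obtain ⟨s, c, rfl⟩ := hy
    obtain ⟨t, d, rfl⟩ := hz
    refine ⟨s ∪ t, (fun i => if i ∈ s then c i else 0) + fun i => if i ∈ t then d i else 0, ?_⟩
    simp only [Pi.add_apply, map_add, Finset.sum_add_distrib]
    congr 1
    · rw [← Finset.sum_subset Finset.subset_union_left fun i _ hi => by simp [hi]]
      exact Finset.sum_congr rfl fun i hi => by rw [if_pos hi]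
    · rw [← Finset.sum_subset Finset.subset_union_right fun i _ hi => by simp [hi]]
      exact Finset.sum_congr rfl fun i hi => by rw [if_pos hi]

variable (q : ∀ i, Pres (L i))

/-- The sum of the ambient modules. -/
noncomputable abbrev sumM : ModuleCat.{u + 1} A := ModuleCat.of A (⨁ i, (q i).M)

/-- The sum of the target modules. -/
noncomputable abbrev sumN : ModuleCat.{u + 1} A := ModuleCat.of A (⨁ i, (q i).N)

/-- The sum of the presenting maps. -/
noncomputable def sumφ : sumM L q ⟶ sumN L q := ModuleCat.ofHom (DirectSum.lmap fun i => (q i).φ.hom)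

variable [DecidableEq I]

/-- The inclusion of a summand. -/
noncomputable def inM (i : I) : (q i).M ⟶ sumM L q := ModuleCat.ofHom (DirectSum.lof A I (fun i => (q i).M) i)

/-- The projection to a summand. -/
noncomputable def prM (i : I) : sumM L q ⟶ (q i).M := ModuleCat.ofHom (DirectSum.component A I (fun i => (q i).M) i)

theorem prM_inM (i j : I) (x : (q i).M) :
    (prM L q j).hom ((inM L q i).hom x) = if h : i = j then h ▸ x else 0 := by
  simp only [prM, inM, ModuleCat.hom_ofHom]
  split_ifs with h
  · subst h
    simp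
  · exact DFinsupp.single_eq_of_ne (Ne.symm h)

theorem tensor_decomp (B : Adeq.Alg A) (z : B ⊗[A] sumM L q) :
    ∃ s : Finset I, ∀ t ⊇ s, z = ∑ i ∈ t, (inM L q i).hom.baseChange B ((prM L q i).hom.baseChange B z) := by
  classical
  induction z using TensorProduct.induction_on with
  | zero => exact ⟨∅, fun t _ => by simp⟩
  | tmul b m =>
    refine ⟨DFinsupp.support m, fun t ht => ?_⟩
    simp only [LinearMap.baseChange_tmul, ← TensorProduct.tmul_sum]
    refine congrArg _ ?_
    conv_lhs => rw [← DirectSum.sum_support_of m]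
    refine Finset.sum_subset ht fun i _ hi => ?_
    rw [DFinsupp.notMem_support_iff.1 hi]
    exact map_zero _
  | add x y hx hy =>
    obtain ⟨s, hs⟩ := hx
    obtain ⟨s', hs'⟩ := hy
    refine ⟨s ∪ s', fun t ht => ?_⟩
    simp only [map_add, Finset.sum_add_distrib]
    rw [← hs t (Finset.subset_union_left.trans ht), ← hs' t (Finset.subset_union_right.trans ht)]

/-- The map of a direct sum into an underlined module. -/
noncomputable def sumι : (∐ L) ⟶ (Adeq.underline A).obj (sumM L q) :=
  Sigma.desc fun i => (q i).ι ≫ (Adeq.underline A).map (inM L q i)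

theorem uEquiv_sumι (B : Adeq.Alg A) (i : I) (x : Val (L i) B) :
    uEquiv _ B (app (sumι L q) B (app (Sigma.ι L i) B x)) =
      (inM L q i).hom.baseChange B (uEquiv _ B (app (q i).ι B x)) := by
  rw [← app_comp, sumι, Sigma.ι_desc, app_comp, uEquiv_map]

theorem baseChange_prM_inM (B : Adeq.Alg A) (i j : I) (z : B ⊗[A] (q i).M) :
    (prM L q j).hom.baseChange B ((inM L q i).hom.baseChange B z) = if h : i = j then h ▸ z else 0 := by
  split_ifs with h
  · subst h
    induction z using TensorProduct.induction_on with
    | zero => simp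
    | tmul b m => rw [LinearMap.baseChange_tmul, LinearMap.baseChange_tmul, prM_inM, dif_pos rfl]
    | add x y hx hy => simp only [map_add, hx, hy]
  · induction z using TensorProduct.induction_on with
    | zero => simp
    | tmul b m => rw [LinearMap.baseChange_tmul, LinearMap.baseChange_tmul, prM_inM, dif_neg h, TensorProduct.tmul_zero]
    | add x y hx hy => simp only [map_add, hx, hy, add_zero]

/-- The presentation of a direct sum. -/
noncomputable def sumPres : Pres (∐ L) where
  M := sumM L q
  N := sumN L q
  φ := sumφ L q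
  ι := sumι L q
  inj B := by
    rw [injective_iff_map_eq_zero]
    intro x hx
    obtain ⟨s, c, rfl⟩ := exists_sum_ι L B x
    refine Finset.sum_eq_zero fun j hj => ?_
    have h := congrArg (fun w => (prM L q j).hom.baseChange B (uEquiv _ B w)) hx
    simp only [map_sum, map_zero] at h
    have h1 : uEquiv _ B (app (q j).ι B (c j)) = 0 := by
      refine Eq.trans ?_ h
      rw [Finset.sum_eq_single j (fun i _ hi => by rw [uEquiv_sumι, baseChange_prM_inM, dif_neg hi])
        (fun h' => absurd hj h'), uEquiv_sumι, baseChange_prM_inM, dif_pos rfl]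
    have h' : c j = 0 := (q j).inj B ((uEquiv _ B).injective (by rw [map_zero, map_zero]; exact h1))
    rw [h', map_zero]
  mem B z := by
    have hφ : ∀ (i : I) (w : B ⊗[A] sumM L q), (DirectSum.component A I (fun i => (q i).N) i).baseChange B
        ((sumφ L q).hom.baseChange B w) = (q i).φ.hom.baseChange B ((prM L q i).hom.baseChange B w) := by
      intro i w
      induction w using TensorProduct.induction_on with
      | zero => simp
      | tmul b m =>
        simp only [LinearMap.baseChange_tmul]
        refine congrArg _ ?_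
        exact DirectSum.lmap_apply (fun i => (q i).φ.hom) m i
      | add x y hx hy => simp only [map_add, hx, hy]
    constructor
    · intro hz
      have hz' : (sumφ L q).hom.baseChange B (uEquiv _ B z) = 0 := by
        have := congrArg (uEquiv (sumN L q) B) hz
        rwa [uEquiv_map, map_zero] at this
      have hc : ∀ i, ∃ y, app (q i).ι B y = (uEquiv _ B).symm ((prM L q i).hom.baseChange B (uEquiv _ B z)) :=
        fun i => ((q i).mem B _).1 ((uEquiv _ B).injective (by
          rw [uEquiv_map, LinearEquiv.apply_symm_apply, map_zero, ← hφ, hz', map_zero]))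
      choose c hc using hc
      obtain ⟨s, hs⟩ := tensor_decomp L q B (uEquiv _ B z)
      refine ⟨∑ i ∈ s, app (Sigma.ι L i) B (c i), (uEquiv _ B).injective ?_⟩
      rw [map_sum, map_sum, hs s subset_rfl]
      refine Finset.sum_congr rfl fun i _ => ?_
      rw [uEquiv_sumι, hc, LinearEquiv.apply_symm_apply]
    · rintro ⟨y, rfl⟩
      obtain ⟨s, c, rfl⟩ := exists_sum_ι L B y
      simp only [map_sum]
      refine Finset.sum_eq_zero fun i _ => (uEquiv _ B).injective ?_
      rw [uEquiv_map, uEquiv_sumι, map_zero]
      have h := congrArg (uEquiv _ B) (((q i).mem B (app (q i).ι B (c i))).2 ⟨_, rfl⟩)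
      rw [uEquiv_map, map_zero] at h
      have hcomm : ∀ w : B ⊗[A] (q i).M, (sumφ L q).hom.baseChange B ((inM L q i).hom.baseChange B w) =
          (DirectSum.lof A I (fun i => (q i).N) i).baseChange B ((q i).φ.hom.baseChange B w) := by
        intro w
        induction w using TensorProduct.induction_on with
        | zero => simp
        | tmul b m =>
          simp only [LinearMap.baseChange_tmul]
          refine congrArg _ ?_
          exact DirectSum.lmap_lof (fun i => (q i).φ.hom) i m
        | add x y hx hy => simp only [map_add, hx, hy]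
      rw [hcomm, h, map_zero]

end Coprod

/-- Direct sums of adequate functors are adequate. -/
theorem adequate_sigma {I : Type (u + 1)} (L : I → Adeq.MVF A) (hL : ∀ i, Adeq.adequate A (L i)) :
    Adeq.adequate A (∐ L) := by
  classical
  exact (sumPres L fun i => (exists_pres (hL i)).some).adequate

/-- Colimits of adequate functors are adequate. -/
theorem adequate_colimit {J : Type (u + 1)} [SmallCategory J] (D : J ⥤ Adeq.MVF A)
    (hD : ∀ j, Adeq.adequate A (D.obj j)) : Adeq.adequate A (colimit D) := by
  let T := Σ j k : J, (j ⟶ k)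
  let ψ : (∐ fun f : T => D.obj f.1) ⟶ ∐ D.obj :=
    Sigma.desc fun f => Sigma.ι D.obj f.1 - D.map f.2.2 ≫ Sigma.ι D.obj f.2.1
  have hψ : ∀ {j k : J} (f : j ⟶ k), Sigma.ι D.obj j ≫ cokernel.π ψ = D.map f ≫ Sigma.ι D.obj k ≫ cokernel.π ψ := by
    intro j k f
    have h := congrArg (Sigma.ι (fun f : T => D.obj f.1) ⟨j, k, f⟩ ≫ ·) (cokernel.condition ψ)
    simp only [ψ, comp_zero, Sigma.ι_desc_assoc, Preadditive.sub_comp, Category.assoc] at h
    exact sub_eq_zero.1 h
  let c : Cocone D := Cocone.mk (cokernel ψ) (NatTrans.mk (fun j => Sigma.ι D.obj j ≫ cokernel.π ψ)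
    (fun j k f => by
      simp only [Functor.const_obj_obj, Functor.const_obj_map, Category.comp_id]
      exact (hψ f).symm))
  refine adequate_of_iso (Iso.mk (cokernel.desc ψ (Sigma.desc (colimit.ι D)) ?_)
    (colimit.desc D c) ?_ ?_)
    (adequate_cokernel (adequate_sigma _ fun f : T => hD f.1) (adequate_sigma _ hD) ψ)
  · refine Sigma.hom_ext _ _ fun f => ?_
    simp only [ψ, Sigma.ι_desc_assoc, Preadditive.sub_comp, Category.assoc, Sigma.ι_desc, colimit.w, sub_self, comp_zero]
  · refine coequalizer.hom_ext (Sigma.hom_ext _ _ fun j => ?_)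
    simp only [cokernel.π_desc_assoc, Sigma.ι_desc_assoc, colimit.ι_desc, Category.comp_id, c]
  · refine colimit.hom_ext fun j => ?_
    simp only [colimit.ι_desc_assoc, Category.assoc, cokernel.π_desc, Sigma.ι_desc, Category.comp_id, c]

theorem exists_coprod_family {F : Adeq.MVF A} (hF : Adeq.adequate A F) :
    ∃ (I : Type (u + 1)) (L : I → Adeq.MVF A) (f : ∀ i, L i ⟶ F), (∀ i, Adeq.linAdequate A (L i)) ∧
      Epi (Sigma.desc f) := by
  have h : ∀ (I : Type (u + 1)) (L : I → Adeq.MVF A) (f : ∀ i, L i ⟶ F),
      (∀ B x, ∃ i y, app (f i) B y = x) → Epi (Sigma.desc f) := fun I L f h => epi_iff.2 fun B x => by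
    obtain ⟨i, y, rfl⟩ := h B x
    exact ⟨app (Sigma.ι L i) B y, by rw [← app_comp, Sigma.ι_desc]⟩
  refine ⟨Idx F, fun s => stdL s.2.1, fun s => s.2.2, fun s => linAdequate_stdL s.2.1, h _ _ _ fun B x => ?_⟩
  obtain ⟨m, n, a, lam, y, hy⟩ := exists_gen hF B x
  exact ⟨⟨(m, n), a, lam⟩, y, hy⟩

end Groth.Agent.AdeqLib
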