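import Groth.Agent.AdeqLib.Ext
import Groth.Agent.PsModLib.Inj

/-!
# The coreflector onto adequate functors
-/

set_option autoImplicit false
set_option backward.isDefEq.respectTransparency false
set_option backward.isDefEq.respectTransparency.types false
universe u

namespace Groth.Agent.AdeqLib

open CategoryTheory Limits Opposite

variable {A : Type u} [CommRing A]

/-- A linearly adequate functor is isomorphic to its standard model. -/
theorem LinPres.nonempty_iso_stdL {L : Adeq.MVF A} (p : LinPres L) : Nonempty (L ≅ stdL p.a) := by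
  let q := stdPres p.a
  let f : ∀ B : Adeq.Alg A, Val L B →ₗ[B] Val (stdL p.a) B := fun B =>
    { toFun := fun x => q.elt (p.co B x) (p.isSol x)
      map_add' := fun x y => q.inj B ((q.co_elt _ _).trans (((map_add (p.co B) x y).trans
        (congrArg₂ (· + ·) (q.co_elt (p.co B x) (p.isSol x)).symm (q.co_elt (p.co B y) (p.isSol y)).symm)).trans
        (map_add (q.co B) _ _).symm))
      map_smul' := fun b x => q.inj B ((q.co_elt _ _).trans (((map_smul (p.co B) b x).trans
        (congrArg (b • ·) (q.co_elt (p.co B x) (p.isSol x)).symm)).trans (map_smul (q.co B) b _).symm)) }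
  have hf : ∀ B x, q.co B (f B x) = p.co B x := fun B x => q.co_elt (p.co B x) (p.isSol x)
  let φ : L ⟶ stdL p.a := homMk f fun {B B'} g x => q.inj B' (funext fun i => by
    rw [hf, p.nat, q.nat, hf])
  haveI : IsIso φ := isIso_of_bijective fun B => by
    refine ⟨fun x y h => p.inj B ?_, fun y => ⟨p.elt (q.co B y) (q.isSol y), q.inj B ?_⟩⟩
    · have h' := congrArg (q.co B) h
      rwa [show app φ B x = f B x from rfl, show app φ B y = f B y from rfl, hf, hf] at h'
    · rw [show app φ B _ = f B _ from rfl, hf, p.co_elt]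
  exact ⟨asIso φ⟩

theorem exists_cover (F : Adeq.MVF A) :
    ∃ (K : Adeq.MVF A) (π : K ⟶ F), Adeq.adequate A K ∧
      ∀ {m n : ℕ} (a : Fin m → Fin n → A) (lam : stdL a ⟶ F), ∃ ν : stdL a ⟶ K, ν ≫ π = lam := by
  have h : ∀ (I : Type (u + 1)) (L : I → Adeq.MVF A) (f : ∀ i, L i ⟶ F), (∀ i, Adeq.linAdequate A (L i)) →
      ∃ (K : Adeq.MVF A) (π : K ⟶ F), Adeq.adequate A K ∧ ∀ i, ∃ ν : L i ⟶ K, ν ≫ π = f i := fun I L f hL =>
    ⟨∐ L, Sigma.desc f, adequate_sigma L fun i => adequate_of_linAdequate (hL i),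
      fun i => ⟨Sigma.ι L i, Sigma.ι_desc f i⟩⟩
  obtain ⟨K, π, hK, hπ⟩ := h (Idx F) (fun s => stdL s.2.1) (fun s => s.2.2) fun s => linAdequate_stdL s.2.1
  exact ⟨K, π, hK, fun {m n} a lam => hπ ⟨(m, n), a, lam⟩⟩

/-- The universal property of the coreflection. -/
theorem exists_universal (F : Adeq.MVF A) :
    ∃ (Q : Adeq.MVF A) (ε : Q ⟶ F), Adeq.adequate A Q ∧
      ∀ (G : Adeq.MVF A), Adeq.adequate A G → ∀ φ : G ⟶ F, ∃! ψ : G ⟶ Q, ψ ≫ ε = φ := by
  obtain ⟨K₀, π₀, hK₀, hπ₀⟩ := exists_cover F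
  obtain ⟨K₁, π₁, hK₁, hπ₁⟩ := exists_cover (kernel π₀)
  let ψ := π₁ ≫ kernel.ι π₀
  let ε : cokernel ψ ⟶ F := cokernel.desc ψ π₀ (by simp [ψ])
  have hQ : Adeq.adequate A (cokernel ψ) := adequate_cokernel hK₁ hK₀ ψ
  have huniq : ∀ (G : Adeq.MVF A), Adeq.adequate A G → ∀ χ : G ⟶ cokernel ψ, χ ≫ ε = 0 → χ = 0 := by
    intro G hG χ hχ
    refine hom_ext fun B x => ?_
    obtain ⟨m, n, a, lam, y, rfl⟩ := exists_gen hG B x
    obtain ⟨μ, hμ⟩ := (stdPres a).exists_lift hK₀ hQ (cokernel.π ψ) (fun B => cokernel_π_surjective ψ B) (lam ≫ χ)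
    have h0 : μ ≫ π₀ = 0 := by
      rw [← cokernel.π_desc ψ π₀ (by simp [ψ]), ← Category.assoc, hμ, Category.assoc]
      exact (congrArg (lam ≫ ·) hχ).trans comp_zero
    obtain ⟨ν, hν⟩ := hπ₁ a (kernel.lift π₀ μ h0)
    have h1 : lam ≫ χ = 0 := by
      have h2 : ν ≫ ψ = μ := by rw [show ψ = π₁ ≫ kernel.ι π₀ from rfl, reassoc_of% hν, kernel.lift_ι]
      rw [← hμ, ← h2, Category.assoc, cokernel.condition, comp_zero]
    exact (app_comp lam χ B y).symm.trans (congrArg (fun v => app v B y) h1)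
  refine ⟨cokernel ψ, ε, hQ, fun G hG φ => ?_⟩
  have hmain : ∀ (I : Type (u + 1)) (L : I → Adeq.MVF A) (f : ∀ i, L i ⟶ G), (∀ i, Adeq.linAdequate A (L i)) →
      Epi (Sigma.desc f) → ∃ χ : G ⟶ cokernel ψ, χ ≫ ε = φ := by
    intro I L f hL hf
    have hlift : ∀ i, ∃ ν : L i ⟶ K₀, ν ≫ π₀ = f i ≫ φ := fun i => by
      obtain ⟨p⟩ := exists_linPres (hL i)
      have e : Nonempty (L i ≅ stdL p.a) := p.nonempty_iso_stdL
      obtain ⟨e⟩ := e
      obtain ⟨ν, hν⟩ := hπ₀ p.a (e.inv ≫ f i ≫ φ)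
      exact ⟨e.hom ≫ ν, by rw [Category.assoc, hν, Iso.hom_inv_id_assoc]⟩
    choose ν hν using hlift
    let ρ := Sigma.desc f
    let θ : (∐ L) ⟶ cokernel ψ := Sigma.desc ν ≫ cokernel.π ψ
    have hθ : θ ≫ ε = ρ ≫ φ := Sigma.hom_ext _ _ fun i => by simp [θ, ε, ρ, hν]
    have hP := adequate_sigma L fun i => adequate_of_linAdequate (hL i)
    have hz : kernel.ι ρ ≫ θ = 0 := huniq _ (adequate_kernel hP hG ρ) _ (by
      rw [Category.assoc, hθ, kernel.condition_assoc, zero_comp])
    let S := ShortComplex.mk (kernel.ι ρ) ρ (kernel.condition ρ)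
    have hS : S.Exact := ShortComplex.exact_of_f_is_kernel S (kernelIsKernel ρ)
    haveI : Epi S.g := hf
    refine ⟨hS.desc θ hz, ?_⟩
    rw [← cancel_epi S.g, hS.g_desc_assoc]
    exact hθ
  obtain ⟨I, L, f, hL, hf⟩ := exists_coprod_family hG
  obtain ⟨χ, hχ⟩ := hmain I L f hL hf
  exact ⟨χ, hχ, fun χ' hχ' => sub_eq_zero.1 (huniq G hG _ (by rw [Preadditive.sub_comp, hχ, hχ', sub_self]))⟩

/-- The inclusion of adequate functors has a right adjoint. -/
theorem isLeftAdjoint_ι : (Adeq.adequate A).ι.IsLeftAdjoint := by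
  rw [isLeftAdjoint_iff_hasTerminal_costructuredArrow]
  intro F
  obtain ⟨Q, ε, hQ, h⟩ := exists_universal F
  let T : CostructuredArrow (Adeq.adequate A).ι F := CostructuredArrow.mk (show (Adeq.adequate A).ι.obj ⟨Q, hQ⟩ ⟶ F from ε)
  refine IsTerminal.hasTerminal (X := T) (IsTerminal.ofUniqueHom (fun X =>
    CostructuredArrow.homMk (ObjectProperty.homMk (h X.left.obj X.left.property X.hom).choose)
      (by exact (h X.left.obj X.left.property X.hom).choose_spec.1)) fun X m => ?_)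
  refine CostructuredArrow.hom_ext _ _ (ObjectProperty.hom_ext _ ?_)
  refine (h X.left.obj X.left.property X.hom).choose_spec.2 _ ?_
  exact CostructuredArrow.w m

/-- Adequate functors have enough injectives. -/
theorem enoughInjectives_adequate : EnoughInjectives (Adeq.Adequate A) where
  presentation X := by
    haveI : EnoughInjectives (Adeq.MVF A) := PsModLib.enoughInjectives (R := Adeq.ringOf A)
    let I : Adeq.MVF A := Injective.under X.obj
    obtain ⟨Q, ε, hQ, h⟩ := exists_universal I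
    let T : Adeq.Adequate A := ⟨Q, hQ⟩
    have hmono : ∀ {Y Z : Adeq.Adequate A} (f : Y ⟶ Z), Mono f → Mono f.hom := fun {Y Z} f hf => by
      let K : Adeq.Adequate A := ⟨kernel f.hom, adequate_kernel Y.property Z.property f.hom⟩
      let k : K ⟶ Y := ObjectProperty.homMk (kernel.ι f.hom)
      have h0 : k = ObjectProperty.homMk 0 := hf.right_cancellation _ _ (ObjectProperty.hom_ext _ (by
        show kernel.ι f.hom ≫ f.hom = (0 : kernel f.hom ⟶ Y.obj) ≫ f.hom
        rw [kernel.condition, zero_comp]))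
      exact Preadditive.mono_of_kernel_zero (congrArg (fun g => g.hom) h0)
    haveI : Injective T := ⟨fun {Y Z} g f hf => by
      haveI := hmono f hf
      have hg : g.hom ≫ ε = f.hom ≫ Injective.factorThru (g.hom ≫ ε) f.hom :=
        (Injective.comp_factorThru _ _).symm
      obtain ⟨ψ, hψ, -⟩ := h Z.obj Z.property (Injective.factorThru (g.hom ≫ ε) f.hom)
      refine ⟨ObjectProperty.homMk ψ, ObjectProperty.hom_ext _ ?_⟩
      exact (h Y.obj Y.property (g.hom ≫ ε)).unique
        (show (f.hom ≫ ψ) ≫ ε = _ by rw [Category.assoc, hψ]; exact hg.symm) rfl⟩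
    obtain ⟨η, hη, -⟩ := h X.obj X.property (Injective.ι X.obj)
    let η' : X ⟶ T := ObjectProperty.homMk η
    haveI : Mono η := by
      haveI : Mono (η ≫ ε) := by rw [hη]; infer_instance
      exact mono_of_mono η ε
    haveI : Mono η' := ⟨fun a b hab => ObjectProperty.hom_ext _ ((cancel_mono η).1 (congrArg (fun g => g.hom) hab))⟩
    exact ⟨{ J := T, f := η' }⟩

end Groth.Agent.AdeqLib
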