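import Groth.Agent.AdeqLib.Change
import Groth.Agent.AdeqLib.Closure

/-!
# Descent of adequacy
-/

set_option autoImplicit false
set_option backward.isDefEq.respectTransparency false
set_option backward.isDefEq.respectTransparency.types false
set_option maxHeartbeats 800000
universe u

namespace Groth.Agent.AdeqLib

open CategoryTheory Limits Opposite TensorProduct

variable {A : Type u} [CommRing A] (A' : Type u) [CommRing A'] [Algebra A A']

/-- The base change of an algebra, again as an algebra over the original ring. -/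
noncomputable abbrev coAlg (B : Adeq.Alg A) : Adeq.Alg A := (Adeq.Alg.restr A A').obj ((Adeq.Alg.baseChange A A').obj B)

/-- The functor of values on base changes. -/
noncomputable abbrev coFun (G : Adeq.MVF A) : Adeq.MVF A := (Adeq.push A A').obj ((Adeq.restr A A').obj G)

theorem unit_naturality {B B' : Adeq.Alg A} (g : B ⟶ B') :
    g ≫ Adeq.Alg.unit A A' B' = Adeq.Alg.unit A A' B ≫ (Adeq.Alg.restr A A').map ((Adeq.Alg.baseChange A A').map g) := by
  apply CommAlgCat.hom_ext
  refine DFunLike.ext _ _ fun b => ?_
  exact (Algebra.TensorProduct.map_tmul (AlgHom.id A' A') g.hom (1 : A') b).symm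

/-- The unit. -/
noncomputable def unitHom (G : Adeq.MVF A) : G ⟶ coFun A' G :=
  homMk (fun B =>
    { toFun := fun x => (res G (Adeq.Alg.unit A A' B) x : Val G (coAlg A' B))
      map_add' := fun x y => map_add (res G (Adeq.Alg.unit A A' B)) x y
      map_smul' := fun b x => res_smul (Adeq.Alg.unit A A' B) b x })
    (fun {B B'} g x => by
      show res G (Adeq.Alg.unit A A' B') (res G g x) =
        res G ((Adeq.Alg.restr A A').map ((Adeq.Alg.baseChange A A').map g)) (res G (Adeq.Alg.unit A A' B) x)
      rw [← res_comp, ← res_comp, unit_naturality])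

/-- Descent of adequacy. -/
theorem adequate_of_descent (F : Adeq.MVF A) (h₁ : Adeq.adequate A' ((Adeq.restr A A').obj F))
    (hinj : ∀ B : Adeq.Alg A, Function.Injective (res F (Adeq.Alg.unit A A' B)))
    (heq : ∀ (B : Adeq.Alg A) (y : Val F (coAlg A' B)),
      res F (Adeq.Alg.unit A A' (coAlg A' B)) y =
        res F ((Adeq.Alg.restr A A').map ((Adeq.Alg.baseChange A A').map (Adeq.Alg.unit A A' B))) y →
      ∃ x, res F (Adeq.Alg.unit A A' B) x = y) :
    Adeq.adequate A F := by
  obtain ⟨q⟩ := exists_pres h₁
  have hG1 : Adeq.adequate A (coFun A' F) := (pushPres q).adequate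
  obtain ⟨q'⟩ := exists_pres hG1
  have hG2 : Adeq.adequate A (coFun A' (coFun A' F)) := (pushPres (restrPres A' q')).adequate
  let β₁ := unitHom A' (coFun A' F)
  let β₂ : coFun A' F ⟶ coFun A' (coFun A' F) := (Adeq.push A A').map ((Adeq.restr A A').map (unitHom A' F))
  refine adequate_of_exact (unitHom A' F) (β₂ - β₁) hG1 hG2 (fun B => hinj B) fun B y => ?_
  constructor
  · intro h
    rw [app_sub, sub_eq_zero] at h
    exact heq B y h
  · rintro ⟨x, rfl⟩
    rw [app_sub, sub_eq_zero]
    show res F (Adeq.Alg.unit A A' (coAlg A' B)) (res F (Adeq.Alg.unit A A' B) x) =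
      res F ((Adeq.Alg.restr A A').map ((Adeq.Alg.baseChange A A').map (Adeq.Alg.unit A A' B)))
        (res F (Adeq.Alg.unit A A' B) x)
    rw [← res_comp, ← res_comp, unit_naturality]

end Groth.Agent.AdeqLib
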