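import Groth.Agent.AdeqLib.Coprod
import Groth.Agent.AdeqLib.Descent

/-!
# Finite equalizers of adequate functors
-/

set_option autoImplicit false
set_option backward.isDefEq.respectTransparency false
set_option backward.isDefEq.respectTransparency.types false
set_option maxHeartbeats 800000
universe u

namespace Groth.Agent.AdeqLib

open CategoryTheory Limits Opposite TensorProduct

variable {A : Type u} [CommRing A]

theorem app_sum {F G : Adeq.MVF A} {κ : Type (u + 1)} (s : Finset κ) (f : κ → (F ⟶ G)) (B : Adeq.Alg A)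
    (x : Val F B) : app (∑ k ∈ s, f k) B x = ∑ k ∈ s, app (f k) B x := by
  classical
  induction s using Finset.induction_on with
  | empty => simp [app_zero]
  | insert a s ha ih => rw [Finset.sum_insert ha, Finset.sum_insert ha, app_add, ih]

/-- A finite product with its projections. -/
theorem exists_prod {ι : Type u} [Finite ι] (G : ι → Adeq.MVF A) (hG : ∀ i, Adeq.adequate A (G i)) :
    ∃ (P : Adeq.MVF A) (π : ∀ i, P ⟶ G i), Adeq.adequate A P ∧
      ∀ B, Function.Bijective (fun (p : Val P B) i => app (π i) B p) := by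
  classical
  haveI := Fintype.ofFinite ι
  let L : ULift.{u + 1} ι → Adeq.MVF A := fun i => G i.down
  let π : ∀ i : ULift.{u + 1} ι, (∐ L) ⟶ L i := fun i =>
    Sigma.desc fun j => if h : j = i then eqToHom (by rw [h]) else 0
  have hπ : ∀ i j B (x : Val (L j) B), app (π i) B (app (Sigma.ι L j) B x) = if h : j = i then h ▸ x else 0 := by
    intro i j B x
    rw [← app_comp, Sigma.ι_desc]
    split_ifs with h
    · subst h; rfl
    · rfl
  refine ⟨∐ L, fun i => π ⟨i⟩, adequate_sigma L fun i => hG i.down, fun B => ⟨fun x y hxy => ?_, fun y => ?_⟩⟩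
  · obtain ⟨s, c, hc⟩ := exists_sum_ι L B (x - y)
    rw [← sub_eq_zero, ← hc]
    refine Finset.sum_eq_zero fun j hj => ?_
    have h := congrFun hxy j.down
    rw [← sub_eq_zero, ← map_sub, ← hc, map_sum, Finset.sum_eq_single j] at h
    · rw [hπ, dif_pos rfl] at h
      exact (congrArg (app (Sigma.ι L j) B) h).trans (map_zero _)
    · intro k _ hk; rw [hπ, dif_neg hk]
    · exact fun h' => absurd hj h'
  · refine ⟨∑ j : ULift.{u + 1} ι, app (Sigma.ι L j) B (y j.down), funext fun i => ?_⟩
    show app (π ⟨i⟩) B _ = y i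
    rw [map_sum, Finset.sum_eq_single ⟨i⟩]
    · rw [hπ, dif_pos rfl]
    · intro k _ hk; rw [hπ, dif_neg hk]
    · exact fun h' => absurd (Finset.mem_univ _) h'

/-- A functor which is a finite equalizer of adequate functors is adequate. -/
theorem adequate_of_equalizer {F : Adeq.MVF A} {ι κ : Type u} [Finite ι] [Finite κ] (G : ι → Adeq.MVF A)
    (H : κ → Adeq.MVF A) (hG : ∀ i, Adeq.adequate A (G i)) (hH : ∀ k, Adeq.adequate A (H k))
    (α : ∀ i, F ⟶ G i) (s t : κ → ι) (β : ∀ k, G (s k) ⟶ H k) (γ : ∀ k, G (t k) ⟶ H k)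
    (hcomm : ∀ k, α (s k) ≫ β k = α (t k) ≫ γ k)
    (hsep : ∀ B x, (∀ i, app (α i) B x = 0) → x = 0)
    (hglue : ∀ B (y : ∀ i, Val (G i) B), (∀ k, app (β k) B (y (s k)) = app (γ k) B (y (t k))) →
      ∃ x, ∀ i, app (α i) B x = y i) :
    Adeq.adequate A F := by
  obtain ⟨P, π, hP, hπ⟩ := exists_prod G hG
  obtain ⟨Q, ρ, hQ, hρ⟩ := exists_prod H hH
  have hexA : ∀ (B : Adeq.Alg A) (x : Val F B), ∃ p : Val P B, ∀ i, app (π i) B p = app (α i) B x := fun B x => by
    obtain ⟨p, hp⟩ := (hπ B).2 fun i => app (α i) B x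
    exact ⟨p, congrFun hp⟩
  choose a₀ ha₀ using hexA
  have hexD : ∀ (B : Adeq.Alg A) (p : Val P B), ∃ q : Val Q B, ∀ k,
      app (ρ k) B q = app (β k) B (app (π (s k)) B p) - app (γ k) B (app (π (t k)) B p) := fun B p => by
    obtain ⟨q, hq⟩ := (hρ B).2 fun k => app (β k) B (app (π (s k)) B p) - app (γ k) B (app (π (t k)) B p)
    exact ⟨q, congrFun hq⟩
  choose d₀ hd using hexD
  let a : ∀ B : Adeq.Alg A, Val F B →ₗ[(B : Type u)] Val P B := fun B =>
    { toFun := a₀ B
      map_add' := fun x y => (hπ B).1 (funext fun i => by simp only [map_add, ha₀])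
      map_smul' := fun b x => (hπ B).1 (funext fun i => by simp only [map_smul, ha₀, RingHom.id_apply]) }
  have ha : ∀ B i x, app (π i) B (a B x) = app (α i) B x := fun B i x => ha₀ B x i
  let d : ∀ B : Adeq.Alg A, Val P B →ₗ[(B : Type u)] Val Q B := fun B =>
    { toFun := d₀ B
      map_add' := fun x y => (hρ B).1 (funext fun k => by simp only [map_add, hd]; abel)
      map_smul' := fun b x => (hρ B).1 (funext fun k => by simp only [map_smul, hd, RingHom.id_apply, smul_sub]) }
  replace hd : ∀ B k p, app (ρ k) B (d B p) = app (β k) B (app (π (s k)) B p) - app (γ k) B (app (π (t k)) B p) :=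
    fun B k p => hd B p k
  refine adequate_of_exact (G := Q) (F := P) (homMk a fun {B B'} g x => (hπ B').1 (funext fun i => by
    show app (π i) B' (a B' (res F g x)) = app (π i) B' (res P g (a B x))
    rw [ha, app_res, app_res, ha])) (homMk d fun {B B'} g x => (hρ B').1 (funext fun k => by
    show app (ρ k) B' (d B' (res P g x)) = app (ρ k) B' (res Q g (d B x))
    rw [hd, app_res, app_res, app_res, app_res, app_res, hd, map_sub])) hP hQ (fun B => ?_) fun B p => ?_
  · refine (injective_iff_map_eq_zero _).2 fun x hx => hsep B x fun i => ?_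
    rw [← ha, show a B x = 0 from hx, map_zero]
  · constructor
    · intro hp
      obtain ⟨x, hx⟩ := hglue B (fun i => app (π i) B p) (fun k => sub_eq_zero.1 (by
        rw [← hd, show d B p = 0 from hp, map_zero]))
      exact ⟨x, (hπ B).1 (funext fun i => (ha B i x).trans (hx i))⟩
    · rintro ⟨x, rfl⟩
      refine (hρ B).1 (funext fun k => ?_)
      show app (ρ k) B (d B (a B x)) = app (ρ k) B 0
      rw [hd, ha, ha, map_zero, sub_eq_zero, ← app_comp, ← app_comp, hcomm]

/-- Descent of adequacy along a finite family. -/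
theorem adequate_of_descent_family (F : Adeq.MVF A) {ι : Type u} [Finite ι] (C : ι → Adeq.Alg A)
    (h₁ : ∀ i, Adeq.adequate (C i) ((Adeq.restr A (C i)).obj F))
    (hsep : ∀ (B : Adeq.Alg A) (x : Val F B), (∀ i, res F (Adeq.Alg.unit A (C i) B) x = 0) → x = 0)
    (hglue : ∀ (B : Adeq.Alg A) (y : ∀ i, Val F (coAlg (C i) B)),
      (∀ i j, res F (Adeq.Alg.unit A (C j) (coAlg (C i) B)) (y i) =
        res F ((Adeq.Alg.restr A (C j)).map ((Adeq.Alg.baseChange A (C j)).map (Adeq.Alg.unit A (C i) B))) (y j)) →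
      ∃ x, ∀ i, res F (Adeq.Alg.unit A (C i) B) x = y i) :
    Adeq.adequate A F := by
  have hG : ∀ i, Adeq.adequate A (coFun (C i) F) := fun i => (pushPres (exists_pres (h₁ i)).some).adequate
  refine adequate_of_equalizer (κ := ι × ι) (fun i => coFun (C i) F) (fun k => coFun (C k.1) (coFun (C k.2) F)) hG
    (fun k => (pushPres (restrPres (C k.1) (exists_pres (hG k.2)).some)).adequate)
    (fun i => unitHom (C i) F) Prod.fst Prod.snd
    (fun k => (Adeq.push A (C k.1)).map ((Adeq.restr A (C k.1)).map (unitHom (C k.2) F)))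
    (fun k => unitHom (C k.1) (coFun (C k.2) F)) (fun k => hom_ext fun B x => ?_) hsep
    fun B y hy => hglue B y fun i j => hy (i, j)
  show res F (Adeq.Alg.unit A (C k.2) (coAlg (C k.1) B)) (res F (Adeq.Alg.unit A (C k.1) B) x) =
    res F ((Adeq.Alg.restr A (C k.2)).map ((Adeq.Alg.baseChange A (C k.2)).map (Adeq.Alg.unit A (C k.1) B)))
      (res F (Adeq.Alg.unit A (C k.2) B) x)
  rw [← res_comp, ← res_comp, unit_naturality]

end Groth.Agent.AdeqLib
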