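import Groth.Agent.AdeqLib.Coprod

/-!
# Extensions of adequate functors
-/

set_option autoImplicit false
set_option backward.isDefEq.respectTransparency false
set_option backward.isDefEq.respectTransparency.types false
set_option maxHeartbeats 800000
universe u

namespace Groth.Agent.AdeqLib

open CategoryTheory Limits Opposite TensorProduct

variable {A : Type u} [CommRing A] {F G H : Adeq.MVF A}

theorem biprod_decomp (B : Adeq.Alg A) (x : Val (F ⊞ G) B) :
    app biprod.inl B (app biprod.fst B x) + app biprod.inr B (app biprod.snd B x) = x := by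
  rw [← app_comp, ← app_comp, ← app_add, biprod.total, app_id]

theorem app_lift_fst (a : H ⟶ F) (b : H ⟶ G) (B : Adeq.Alg A) (x : Val H B) :
    app biprod.fst B (app (biprod.lift a b) B x) = app a B x := by rw [← app_comp, biprod.lift_fst]

theorem app_lift_snd (a : H ⟶ F) (b : H ⟶ G) (B : Adeq.Alg A) (x : Val H B) :
    app biprod.snd B (app (biprod.lift a b) B x) = app b B x := by rw [← app_comp, biprod.lift_snd]

theorem app_desc (a : F ⟶ H) (b : G ⟶ H) (B : Adeq.Alg A) (x : Val (F ⊞ G) B) :
    app (biprod.desc a b) B x = app a B (app biprod.fst B x) + app b B (app biprod.snd B x) := by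
  conv_lhs => rw [← biprod_decomp B x, map_add, ← app_comp biprod.inl, ← app_comp biprod.inr, biprod.inl_desc,
    biprod.inr_desc]

theorem app_neg (φ : F ⟶ G) (B : Adeq.Alg A) (x : Val F B) : app (-φ) B x = -app φ B x := rfl

theorem biprod_ext (B : Adeq.Alg A) {x y : Val (F ⊞ G) B} (h₁ : app biprod.fst B x = app biprod.fst B y)
    (h₂ : app biprod.snd B x = app biprod.snd B y) : x = y := by
  rw [← biprod_decomp B x, ← biprod_decomp B y, h₁, h₂]

theorem app_inl_fst (B : Adeq.Alg A) (x : Val F B) : app biprod.fst B (app (biprod.inl : F ⟶ F ⊞ G) B x) = x := by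
  rw [← app_comp, biprod.inl_fst, app_id]

theorem app_inl_snd (B : Adeq.Alg A) (x : Val F B) : app biprod.snd B (app (biprod.inl : F ⟶ F ⊞ G) B x) = 0 := by
  rw [← app_comp, biprod.inl_snd, app_zero]

theorem app_inr_fst (B : Adeq.Alg A) (x : Val G B) : app biprod.fst B (app (biprod.inr : G ⟶ F ⊞ G) B x) = 0 := by
  rw [← app_comp, biprod.inr_fst, app_zero]

theorem app_inr_snd (B : Adeq.Alg A) (x : Val G B) : app biprod.snd B (app (biprod.inr : G ⟶ F ⊞ G) B x) = x := by
  rw [← app_comp, biprod.inr_snd, app_id]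

theorem bc_comp {M N P : Type (u + 1)} [AddCommGroup M] [Module A M] [AddCommGroup N] [Module A N] [AddCommGroup P]
    [Module A P] (g : N →ₗ[A] P) (f : M →ₗ[A] N) (B : Adeq.Alg A) (z : B ⊗[A] M) :
    g.baseChange B (f.baseChange B z) = (g ∘ₗ f).baseChange B z := by
  rw [LinearMap.baseChange_comp, LinearMap.comp_apply]

/-- Split extensions of adequate functors are adequate. -/
theorem adequate_of_splitting {S : ShortComplex (Adeq.MVF A)} (σ : S.Splitting) (h₁ : Adeq.adequate A S.X₁)
    (h₃ : Adeq.adequate A S.X₃) : Adeq.adequate A S.X₂ := by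
  obtain ⟨q₁⟩ := exists_pres h₁
  obtain ⟨q₃⟩ := exists_pres h₃
  let M : ModuleCat.{u + 1} A := ModuleCat.of A (q₁.M × q₃.M)
  let N : ModuleCat.{u + 1} A := ModuleCat.of A (q₁.N × q₃.N)
  let φ : M ⟶ N := ModuleCat.ofHom (q₁.φ.hom.prodMap q₃.φ.hom)
  let i₁ : q₁.M ⟶ M := ModuleCat.ofHom (LinearMap.inl A q₁.M q₃.M)
  let i₃ : q₃.M ⟶ M := ModuleCat.ofHom (LinearMap.inr A q₁.M q₃.M)
  let ι : S.X₂ ⟶ (Adeq.underline A).obj M :=
    σ.r ≫ q₁.ι ≫ (Adeq.underline A).map i₁ + S.g ≫ q₃.ι ≫ (Adeq.underline A).map i₃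
  have hid : ∀ B x, app S.f B (app σ.r B x) + app σ.s B (app S.g B x) = x := fun B x => by
    rw [← app_comp, ← app_comp, ← app_add, σ.id, app_id]
  have hι : ∀ (B : Adeq.Alg A) x, uEquiv M B (app ι B x) = (LinearMap.inl A q₁.M q₃.M).baseChange B (uEquiv _ B (app q₁.ι B (app σ.r B x))) +
      (LinearMap.inr A q₁.M q₃.M).baseChange B (uEquiv _ B (app q₃.ι B (app S.g B x))) := fun B x => rfl
  have hfst : ∀ (B : Adeq.Alg A) x, (LinearMap.fst A q₁.M q₃.M).baseChange B (uEquiv M B (app ι B x)) =
      uEquiv _ B (app q₁.ι B (app σ.r B x)) := fun B x => by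
    rw [hι, map_add, bc_comp, bc_comp, LinearMap.fst_comp_inl, LinearMap.fst_comp_inr, LinearMap.baseChange_id,
      LinearMap.baseChange_zero, LinearMap.id_apply, LinearMap.zero_apply, add_zero]
  have hsnd : ∀ (B : Adeq.Alg A) x, (LinearMap.snd A q₁.M q₃.M).baseChange B (uEquiv M B (app ι B x)) =
      uEquiv _ B (app q₃.ι B (app S.g B x)) := fun B x => by
    rw [hι, map_add, bc_comp, bc_comp, LinearMap.snd_comp_inl, LinearMap.snd_comp_inr, LinearMap.baseChange_id,
      LinearMap.baseChange_zero, LinearMap.id_apply, LinearMap.zero_apply, zero_add]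
  have hdec : ∀ (B : Adeq.Alg A) (z : B ⊗[A] M),
      z = (LinearMap.inl A q₁.M q₃.M).baseChange B ((LinearMap.fst A q₁.M q₃.M).baseChange B z) +
        (LinearMap.inr A q₁.M q₃.M).baseChange B ((LinearMap.snd A q₁.M q₃.M).baseChange B z) := by
    intro B z
    induction z using TensorProduct.induction_on with
    | zero => simp
    | tmul b y =>
      obtain ⟨y₁, y₃⟩ := y
      simp [← TensorProduct.tmul_add]
    | add x y hx hy =>
      simp only [map_add]
      conv_lhs => rw [hx, hy]
      abel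
  have hφ : ∀ (B : Adeq.Alg A) (z : B ⊗[A] M), φ.hom.baseChange B z =
      (LinearMap.inl A q₁.N q₃.N).baseChange B (q₁.φ.hom.baseChange B ((LinearMap.fst A q₁.M q₃.M).baseChange B z)) +
        (LinearMap.inr A q₁.N q₃.N).baseChange B (q₃.φ.hom.baseChange B ((LinearMap.snd A q₁.M q₃.M).baseChange B z)) := by
    intro B z
    induction z using TensorProduct.induction_on with
    | zero => simp
    | tmul b y =>
      obtain ⟨y₁, y₃⟩ := y
      simp [φ, ← TensorProduct.tmul_add]
      exact rfl
    | add x y hx hy => simp only [map_add, hx, hy]; abel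
  refine Pres.adequate ⟨M, N, φ, ι, fun B => ?_, fun B z => ?_⟩
  · rw [injective_iff_map_eq_zero]
    intro x hx
    have h1 := hfst B x
    have h3 := hsnd B x
    rw [hx, map_zero, map_zero] at h1 h3
    have hr : app σ.r B x = 0 := q₁.inj B ((uEquiv _ B).injective (by rw [map_zero, map_zero]; exact h1.symm))
    have hg : app S.g B x = 0 := q₃.inj B ((uEquiv _ B).injective (by rw [map_zero, map_zero]; exact h3.symm))
    rw [← hid B x, hr, hg, map_zero, map_zero, add_zero]
  · constructor
    · intro hz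
      have hz' : φ.hom.baseChange B (uEquiv M B z) = 0 := by
        have := congrArg (uEquiv N B) hz
        rwa [uEquiv_map, map_zero] at this
      rw [hφ] at hz'
      have z1 := congrArg ((LinearMap.fst A q₁.N q₃.N).baseChange B) hz'
      have z3 := congrArg ((LinearMap.snd A q₁.N q₃.N).baseChange B) hz'
      simp only [map_add, map_zero, ← LinearMap.comp_apply, ← LinearMap.baseChange_comp] at z1 z3
      simp only [LinearMap.baseChange_comp, LinearMap.fst_comp_inl, LinearMap.fst_comp_inr, LinearMap.snd_comp_inl,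
        LinearMap.snd_comp_inr, LinearMap.baseChange_id, LinearMap.baseChange_zero, LinearMap.id_comp,
        LinearMap.zero_comp, LinearMap.zero_apply, add_zero, zero_add, ← LinearMap.comp_assoc] at z1 z3
      obtain ⟨y₁, hy₁⟩ := (q₁.mem B ((uEquiv _ B).symm ((LinearMap.fst A q₁.M q₃.M).baseChange B (uEquiv M B z)))).1
        ((uEquiv _ B).injective (by rw [uEquiv_map, LinearEquiv.apply_symm_apply, map_zero]; exact z1))
      obtain ⟨y₃, hy₃⟩ := (q₃.mem B ((uEquiv _ B).symm ((LinearMap.snd A q₁.M q₃.M).baseChange B (uEquiv M B z)))).1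
        ((uEquiv _ B).injective (by rw [uEquiv_map, LinearEquiv.apply_symm_apply, map_zero]; exact z3))
      refine ⟨app S.f B y₁ + app σ.s B y₃, (uEquiv M B).injective ?_⟩
      rw [hdec B (uEquiv M B z), hι]
      congr 1
      · rw [map_add, ← app_comp S.f, ← app_comp σ.s, σ.f_r, σ.s_r, app_id, app_zero, add_zero, hy₁,
          LinearEquiv.apply_symm_apply]
      · rw [map_add, ← app_comp S.f, ← app_comp σ.s, S.zero, σ.s_g, app_id, app_zero, zero_add, hy₃,
          LinearEquiv.apply_symm_apply]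
    · rintro ⟨x, rfl⟩
      refine (uEquiv N B).injective ?_
      rw [uEquiv_map, map_zero, hφ, hfst, hsnd, ← uEquiv_map, ← uEquiv_map, (q₁.mem B _).2 ⟨_, rfl⟩,
        (q₃.mem B _).2 ⟨_, rfl⟩]
      simp

theorem adequate_biprod (hF : Adeq.adequate A F) (hG : Adeq.adequate A G) : Adeq.adequate A (F ⊞ G) :=
  adequate_of_splitting (ShortComplex.Splitting.ofHasBinaryBiproduct F G) hF hG

/-- Extensions by an underlined module of a linearly adequate functor split. -/
theorem nonempty_splitting (S : ShortComplex (Adeq.MVF A)) (hS : S.ShortExact) (M : ModuleCat.{u + 1} A)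
    (e : S.X₁ ≅ (Adeq.underline A).obj M) (hL : Adeq.linAdequate A S.X₃) : Nonempty S.Splitting := by
  obtain ⟨p⟩ := exists_linPres hL
  obtain ⟨hinj, hsurj, hex⟩ : (∀ B, Function.Injective (app S.f B)) ∧ (∀ B, Function.Surjective (app S.g B)) ∧
      ∀ B, Function.Exact (app S.f B) (app S.g B) :=
    ⟨fun B => (shortExact_apply hS B).1, fun B => (shortExact_apply hS B).2.1, fun B => (shortExact_apply hS B).2.2⟩
  have he : ∀ B, Function.Surjective (app e.inv B) := epi_iff.1 inferInstance
  obtain ⟨s, hs⟩ := p.exists_section (e.inv ≫ S.f) S.g (fun B => (hinj B).comp (mono_iff.1 inferInstance B)) hsurj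
    fun B x => by
      rw [hex B x]
      constructor
      · rintro ⟨y, rfl⟩
        obtain ⟨z, rfl⟩ := he B y
        exact ⟨z, app_comp _ _ _ _⟩
      · rintro ⟨z, rfl⟩
        exact ⟨app e.inv B z, (app_comp _ _ _ _).symm⟩
  exact ⟨ShortComplex.Splitting.ofExactOfSection S hS.exact s hs hS.mono_f⟩

/-- Morphisms from linearly adequate functors lift along extensions by underlined modules. -/
theorem LinPres.exists_lift_underline {L T : Adeq.MVF A} (p : LinPres L) {M : ModuleCat.{u + 1} A}
    (i : (Adeq.underline A).obj M ⟶ T) (t : T ⟶ H) (hi : ∀ B, Function.Injective (app i B))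
    (ht : ∀ B, Function.Surjective (app t B)) (hex : ∀ B, Function.Exact (app i B) (app t B)) (φ : L ⟶ H) :
    ∃ l : L ⟶ T, l ≫ t = φ := by
  let u : T ⊞ L ⟶ H := biprod.desc t (-φ)
  have hu : ∀ B z, app u B z = app t B (app biprod.fst B z) - app φ B (app biprod.snd B z) := fun B z => by
    rw [app_desc, app_neg, sub_eq_add_neg]
  have hc : biprod.lift i 0 ≫ u = 0 := hom_ext fun B m => by
    rw [app_comp, hu, app_lift_fst, app_lift_snd, app_zero, map_zero, sub_zero, (hex B).apply_apply_eq_zero, app_zero]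
  let f' := kernel.lift u (biprod.lift i 0) hc
  have hf' : ∀ B m, app (kernel.ι u) B (app f' B m) = app (biprod.lift i 0) B m := fun B m => by
    rw [← app_comp, kernel.lift_ι]
  let g' : kernel u ⟶ L := kernel.ι u ≫ biprod.snd
  have hinj : ∀ B, Function.Injective (app f' B) := fun B m m' h => hi B (by
    have h' := congrArg (app biprod.fst B) (congrArg (app (kernel.ι u) B) h)
    rwa [hf', hf', app_lift_fst, app_lift_fst] at h')
  have hsurj : ∀ B, Function.Surjective (app g' B) := fun B l => by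
    obtain ⟨z, hz⟩ := ht B (app φ B l)
    obtain ⟨w, hw⟩ := (kernel_ι_mem u B (app biprod.inl B z + app biprod.inr B l)).1 (by
      rw [hu, map_add (app biprod.fst B), map_add (app biprod.snd B), app_inl_fst, app_inr_fst, app_inl_snd, app_inr_snd, add_zero, zero_add, hz, sub_self])
    refine ⟨w, ?_⟩
    rw [app_comp, hw, map_add, app_inl_snd, app_inr_snd, zero_add]
  have hexact : ∀ B, Function.Exact (app f' B) (app g' B) := fun B w => by
    constructor
    · intro hw
      rw [app_comp] at hw
      have h : app t B (app biprod.fst B (app (kernel.ι u) B w)) = 0 := by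
        have h0 := (kernel_ι_mem u B _).2 ⟨w, rfl⟩
        rw [hu, hw, map_zero, sub_zero] at h0
        exact h0
      obtain ⟨m, hm⟩ := (hex B _).1 h
      exact ⟨m, kernel_ι_injective u B (biprod_ext B (by rw [hf', app_lift_fst, hm])
        (by rw [hf', app_lift_snd, app_zero, hw]))⟩
    · rintro ⟨m, rfl⟩
      rw [app_comp, hf', app_lift_snd, app_zero]
  obtain ⟨s, hs⟩ := p.exists_section f' g' hinj hsurj hexact
  refine ⟨s ≫ kernel.ι u ≫ biprod.fst, hom_ext fun B l => ?_⟩
  have h0 := (kernel_ι_mem u B _).2 ⟨app s B l, rfl⟩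
  rw [hu, sub_eq_zero] at h0
  rw [app_comp, app_comp, app_comp, h0]
  refine congrArg (app φ B) ?_
  exact (congrArg (fun v => app v B l) hs).trans (app_id _ _)

/-- Morphisms from linearly adequate functors lift along extensions by adequate functors. -/
theorem exists_lift_ext {S : ShortComplex (Adeq.MVF A)} (hS : S.ShortExact) (h₁ : Adeq.adequate A S.X₁)
    {L : Adeq.MVF A} (hL : Adeq.linAdequate A L) (φ : L ⟶ S.X₃) : ∃ l : L ⟶ S.X₂, l ≫ S.g = φ := by
  obtain ⟨p⟩ := exists_linPres hL
  obtain ⟨q⟩ := exists_pres h₁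
  have hf := fun B => (shortExact_apply hS B).1
  have hg := fun B => (shortExact_apply hS B).2.1
  have hex := fun B => (shortExact_apply hS B).2.2
  let U := (Adeq.underline A).obj q.M
  let d : S.X₁ ⟶ S.X₂ ⊞ U := biprod.lift S.f (-q.ι)
  let i : U ⟶ cokernel d := biprod.inr ≫ cokernel.π d
  let j : S.X₂ ⟶ cokernel d := biprod.inl ≫ cokernel.π d
  let t : cokernel d ⟶ S.X₃ := cokernel.desc d (biprod.desc S.g 0) (by simp [d])
  let c : cokernel d ⟶ cokernel q.ι := cokernel.desc d (biprod.desc 0 (cokernel.π q.ι)) (by simp [d])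
  have ht : ∀ B z, app t B (app (cokernel.π d) B z) = app S.g B (app biprod.fst B z) := fun B z => by
    rw [← app_comp, cokernel.π_desc, app_desc, app_zero, add_zero]
  have hc : ∀ B z, app c B (app (cokernel.π d) B z) = app (cokernel.π q.ι) B (app biprod.snd B z) := fun B z => by
    rw [← app_comp, cokernel.π_desc, app_desc, app_zero, zero_add]
  have hd : ∀ B z, app (cokernel.π d) B z = 0 ↔ ∃ x, app S.f B x = app biprod.fst B z ∧
      -app q.ι B x = app biprod.snd B z := by
    intro B z
    rw [cokernel_π_mem]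
    refine exists_congr fun x => ⟨fun h => ?_, fun h => biprod_ext B ?_ ?_⟩
    · subst h; rw [app_lift_fst, app_lift_snd, app_neg]; exact ⟨rfl, rfl⟩
    · rw [app_lift_fst, h.1]
    · rw [app_lift_snd, app_neg, h.2]
  have hi : ∀ B, Function.Injective (app i B) := fun B => by
    rw [injective_iff_map_eq_zero]
    intro m hm
    rw [app_comp, hd] at hm
    obtain ⟨x, hx1, hx2⟩ := hm
    rw [← app_comp, biprod.inr_fst, app_zero] at hx1
    rw [← app_comp, biprod.inr_snd, app_id, hf B (hx1.trans (map_zero _).symm), map_zero, neg_zero] at hx2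
    exact hx2.symm
  have htex : ∀ B w, app t B w = 0 ↔ ∃ m, app i B m = w := by
    intro B w
    obtain ⟨z, rfl⟩ := cokernel_π_surjective d B w
    rw [ht]
    constructor
    · intro h
      obtain ⟨x, hx⟩ := (hex B _).1 h
      refine ⟨app biprod.snd B z + app q.ι B x, ?_⟩
      rw [app_comp, ← sub_eq_zero, ← map_sub, hd]
      refine ⟨-x, ?_, ?_⟩
      · rw [map_sub, ← app_comp, biprod.inr_fst, app_zero, zero_sub, map_neg, hx]
      · rw [map_sub, ← app_comp, biprod.inr_snd, app_id, map_neg, neg_neg, add_sub_cancel_left]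
    · rintro ⟨m, hm⟩
      have h := congrArg (app t B) hm
      rw [app_comp, ht, ht, app_inr_fst, map_zero] at h
      exact h.symm
  -- pull back to `L`
  obtain ⟨l₀, hl₀⟩ := p.exists_lift_underline i t hi (fun B x => by
    obtain ⟨y, hy⟩ := hg B x
    exact ⟨app j B y, by rw [app_comp, ht, app_inl_fst, hy]⟩) (fun B w => htex B w) φ
  -- remove the component in the cokernel of `q.ι`
  obtain ⟨m, hm⟩ := p.exists_lift (adequate_underline q.M) (adequate_cokernel h₁ (adequate_underline q.M) q.ι)
    (cokernel.π q.ι) (fun B => cokernel_π_surjective q.ι B) (l₀ ≫ c)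
  have hj : ∀ B w, app c B w = 0 → ∃ x, app j B x = w := by
    intro B w hw
    obtain ⟨z, rfl⟩ := cokernel_π_surjective d B w
    rw [hc, cokernel_π_mem] at hw
    obtain ⟨x, hx⟩ := hw
    refine ⟨app biprod.fst B z + app S.f B x, ?_⟩
    rw [app_comp, ← sub_eq_zero, ← map_sub, hd]
    refine ⟨x, ?_, ?_⟩
    · rw [map_sub, ← app_comp, biprod.inl_fst, app_id, add_sub_cancel_left]
    · rw [map_sub, ← app_comp, biprod.inl_snd, app_zero, zero_sub, hx]
  have hjc : j ≫ c = 0 := hom_ext fun B x => by
    rw [app_comp, app_comp, hc, app_inl_snd, map_zero, app_zero]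
  haveI : IsIso (kernel.lift c j hjc) := isIso_of_bijective fun B => by
    refine ⟨(injective_iff_map_eq_zero _).2 fun x hx => ?_, fun w => ?_⟩
    · have h := congrArg (app (kernel.ι c) B) hx
      rw [map_zero, ← app_comp, kernel.lift_ι, app_comp, hd] at h
      obtain ⟨y, hy1, hy2⟩ := h
      rw [← app_comp, biprod.inl_snd, app_zero, neg_eq_zero] at hy2
      rw [← app_comp, biprod.inl_fst, app_id, q.inj B (hy2.trans (map_zero _).symm), map_zero] at hy1
      exact hy1.symm
    · obtain ⟨x, hx⟩ := hj B _ ((kernel_ι_mem c B _).2 ⟨w, rfl⟩)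
      exact ⟨x, kernel_ι_injective c B (by rw [← app_comp, kernel.lift_ι, hx])⟩
  have hl₂ : (l₀ - m ≫ i) ≫ c = 0 := by
    rw [Preadditive.sub_comp, Category.assoc, show i ≫ c = cokernel.π q.ι by simp [i, c], hm, sub_self]
  refine ⟨kernel.lift c _ hl₂ ≫ inv (kernel.lift c j hjc), ?_⟩
  have hjt : S.g = j ≫ t := by simp [j, t]
  have h : inv (kernel.lift c j hjc) ≫ j = kernel.ι c := by rw [IsIso.inv_comp_eq, kernel.lift_ι]
  rw [hjt, Category.assoc, reassoc_of% h, kernel.lift_ι_assoc]
  rw [Preadditive.sub_comp, hl₀, Category.assoc, show i ≫ t = 0 by simp [i, t], comp_zero, sub_zero]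

/-- Extensions of adequate functors are adequate. -/
theorem adequate_ext {S : ShortComplex (Adeq.MVF A)} (hS : S.ShortExact) (h₁ : Adeq.adequate A S.X₁)
    (h₃ : Adeq.adequate A S.X₃) : Adeq.adequate A S.X₂ := by
  obtain ⟨I, L, f, hL, hf⟩ := exists_coprod_family h₃
  choose l hl using fun i => exists_lift_ext hS h₁ (hL i) (f i)
  let P := ∐ L
  have hP : Adeq.adequate A P := adequate_sigma _ fun i => adequate_of_linAdequate (hL i)
  let π : P ⟶ S.X₃ := Sigma.desc f
  have hπ : ∀ B, Function.Surjective (app π B) := epi_iff.1 hf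
  let lP : P ⟶ S.X₂ := Sigma.desc l
  have hlπ : lP ≫ S.g = π := Sigma.hom_ext _ _ fun i => by simp [lP, π, hl]
  haveI := hS.mono_f
  let β := hS.exact.lift (kernel.ι π ≫ lP) (by rw [Category.assoc, hlπ, kernel.condition])
  have hβ : ∀ B w, app S.f B (app β B w) = app lP B (app (kernel.ι π) B w) := fun B w => by
    rw [← app_comp, hS.exact.lift_f, app_comp]
  let ψ : kernel π ⟶ S.X₁ ⊞ P := biprod.lift β (-kernel.ι π)
  let Φ : cokernel ψ ⟶ S.X₂ := cokernel.desc ψ (biprod.desc S.f lP) (hom_ext fun B w => by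
    rw [app_comp, app_desc, app_lift_fst, app_lift_snd, app_neg, map_neg, hβ, add_neg_cancel, app_zero])
  have hΦ : ∀ B z, app Φ B (app (cokernel.π ψ) B z) = app S.f B (app biprod.fst B z) + app lP B (app biprod.snd B z) :=
    fun B z => by rw [← app_comp, cokernel.π_desc, app_desc]
  haveI : IsIso Φ := isIso_of_bijective fun B => by
    obtain ⟨hf, -, hex⟩ := shortExact_apply hS B
    refine ⟨(injective_iff_map_eq_zero _).2 fun w hw => ?_, fun x => ?_⟩
    · obtain ⟨z, rfl⟩ := cokernel_π_surjective ψ B w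
      rw [hΦ] at hw
      have h : app π B (app biprod.snd B z) = 0 := by
        have h1 := congrArg (app S.g B) hw
        rwa [map_add, hex.apply_apply_eq_zero, zero_add, map_zero, ← app_comp, hlπ] at h1
      obtain ⟨k, hk⟩ := (kernel_ι_mem π B _).1 h
      refine (cokernel_π_mem ψ B z).2 ⟨-k, biprod_ext B (hf ?_) ?_⟩
      · rw [app_lift_fst, map_neg, map_neg, hβ, hk]
        exact (eq_neg_of_add_eq_zero_left hw).symm
      · rw [app_lift_snd, app_neg, map_neg, neg_neg, hk]
    · obtain ⟨y, hy⟩ := hπ B (app S.g B x)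
      obtain ⟨a, ha⟩ := (hex (x - app lP B y)).1 (by rw [map_sub, ← app_comp, hlπ, hy, sub_self])
      refine ⟨app (cokernel.π ψ) B (app biprod.inl B a + app biprod.inr B y), ?_⟩
      rw [hΦ, map_add (app biprod.fst B), map_add (app biprod.snd B), app_inl_fst, app_inr_fst, app_inl_snd, app_inr_snd,
        add_zero, zero_add, ha, sub_add_cancel]
  exact adequate_of_iso (asIso Φ)
    (adequate_cokernel (adequate_kernel hP h₃ π) (adequate_biprod h₁ hP) ψ)

end Groth.Agent.AdeqLib
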