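import Groth.Agent.AdeqLib.Basic

/-!
# Adequate functors satisfy faithfully flat descent
-/

set_option autoImplicit false
set_option backward.isDefEq.respectTransparency false
set_option backward.isDefEq.respectTransparency.types false
universe u v

namespace Groth.Agent.AdeqLib

open CategoryTheory Limits Opposite TensorProduct

theorem amitsur_module {R B : Type u} [CommRing R] [CommRing B] [Algebra R B] [Module.FaithfullyFlat R B]
    (N : Type v) [AddCommGroup N] [Module R N] :
    Function.Injective ((TensorProduct.mk R B N) 1) ∧ ∀ z : B ⊗[R] N,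
      (Algebra.TensorProduct.includeLeft (R := R) (S := R) (A := B) (B := B)).toLinearMap.rTensor N z =
        (Algebra.TensorProduct.includeRight (R := R) (A := B) (B := B)).toLinearMap.rTensor N z →
      ∃ n : N, (1 : B) ⊗ₜ[R] n = z := by
  refine ⟨Module.FaithfullyFlat.tensorProduct_mk_injective N, fun z hz => ?_⟩
  let f : N →ₗ[R] B ⊗[R] N := (TensorProduct.mk R B N) 1
  let g : B ⊗[R] N →ₗ[R] (B ⊗[R] B) ⊗[R] N :=
    (Algebra.TensorProduct.includeLeftSubRight R B).rTensor N
  have hex : Function.Exact f g := by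
    refine Module.FaithfullyFlat.lTensor_reflects_exact R B f g fun w => ⟨fun hw => ?_, ?_⟩
    · let h : B ⊗[R] (B ⊗[R] N) →ₗ[R] B ⊗[R] N :=
        (LinearMap.mul' R B).rTensor N ∘ₗ (TensorProduct.assoc R B B N).symm.toLinearMap
      let μ : B ⊗[R] ((B ⊗[R] B) ⊗[R] N) →ₗ[R] B ⊗[R] (B ⊗[R] N) :=
        (TensorProduct.assoc R B B N).toLinearMap ∘ₗ
          (((LinearMap.mul' R B).rTensor B ∘ₗ (TensorProduct.assoc R B B B).symm.toLinearMap).rTensor N) ∘ₗ
          (TensorProduct.assoc R B (B ⊗[R] B) N).symm.toLinearMap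
      have key : ∀ w, μ (g.lTensor B w) = f.lTensor B (h w) - w := by
        intro w
        induction w using TensorProduct.induction_on with
        | zero => simp
        | tmul b y =>
          induction y using TensorProduct.induction_on with
          | zero => simp
          | tmul x n =>
            simp [g, μ, f, h, TensorProduct.tmul_sub, TensorProduct.sub_tmul]
          | add y y' hy hy' => simp only [TensorProduct.tmul_add, map_add, hy, hy']; abel
        | add y y' hy hy' => simp only [map_add, hy, hy']; abel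
      refine ⟨h w, ?_⟩
      rw [← sub_eq_zero, ← key, hw, map_zero]
    · rintro ⟨y, rfl⟩
      induction y using TensorProduct.induction_on with
      | zero => simp
      | tmul b n => simp [g, f]
      | add y y' hy hy' => simp only [map_add, hy, hy', add_zero]
  obtain ⟨n, hn⟩ := (hex z).1 (by
    show (Algebra.TensorProduct.includeLeftSubRight R B).rTensor N z = 0
    rw [Algebra.TensorProduct.includeLeftSubRight, LinearMap.rTensor_sub, LinearMap.sub_apply, sub_eq_zero]
    exact hz)
  exact ⟨n, hn⟩

variable {A : Type u} [CommRing A]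

/-- Adequate functors are sheaves for faithfully flat maps out of the base. -/
theorem Pres.equalizer {F : Adeq.MVF A} (q : Pres F) (B : Type u) [CommRing B] [Algebra A B]
    [Module.FaithfullyFlat A B] :
    Function.Injective (res F (CommAlgCat.ofHom (Algebra.ofId A B) : Adeq.algOf A A ⟶ Adeq.algOf A B)) ∧
      ∀ y : Val F (Adeq.algOf A B),
        res F (CommAlgCat.ofHom (Algebra.TensorProduct.includeLeft : B →ₐ[A] B ⊗[A] B) :
          Adeq.algOf A B ⟶ Adeq.algOf A (B ⊗[A] B)) y =
        res F (CommAlgCat.ofHom (Algebra.TensorProduct.includeRight : B →ₐ[A] B ⊗[A] B) :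
          Adeq.algOf A B ⟶ Adeq.algOf A (B ⊗[A] B)) y →
        ∃ x, res F (CommAlgCat.ofHom (Algebra.ofId A B) : Adeq.algOf A A ⟶ Adeq.algOf A B) x = y := by
  let i : Adeq.algOf A A ⟶ Adeq.algOf A B := CommAlgCat.ofHom (Algebra.ofId A B)
  have hi : ∀ (N : ModuleCat.{u + 1} A) (z : A ⊗[A] N),
      i.hom.toLinearMap.rTensor N z = (1 : B) ⊗ₜ[A] TensorProduct.lid A N z := by
    intro N z
    induction z using TensorProduct.induction_on with
    | zero => simp
    | tmul r n =>
      rw [LinearMap.rTensor_tmul, TensorProduct.lid_tmul, TensorProduct.tmul_smul, TensorProduct.smul_tmul']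
      refine congrArg (fun e => e ⊗ₜ[A] n) ?_
      show algebraMap A B r = r • (1 : B)
      rw [Algebra.algebraMap_eq_smul_one]
    | add x y hx hy => simp only [map_add, TensorProduct.tmul_add, hx, hy]
  refine ⟨(injective_iff_map_eq_zero _).2 fun x hx => ?_, fun y hy => ?_⟩
  · refine q.inj _ ((uEquiv q.M _).injective ((TensorProduct.lid A q.M).injective ?_))
    rw [map_zero, map_zero, map_zero]
    refine (amitsur_module (R := A) (B := B) q.M).1 ?_
    show (1 : B) ⊗ₜ[A] _ = (1 : B) ⊗ₜ[A] (0 : q.M)
    rw [TensorProduct.tmul_zero]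
    refine (hi q.M _).symm.trans ?_
    exact (uEquiv_res i _).symm.trans ((congrArg (uEquiv q.M (Adeq.algOf A B))
      ((app_res q.ι i x).symm.trans ((congrArg (app q.ι (Adeq.algOf A B)) hx).trans (map_zero (app q.ι (Adeq.algOf A B)))))).trans (map_zero _))
  · have h := (uEquiv_res _ _).symm.trans ((congrArg (uEquiv q.M (Adeq.algOf A (B ⊗[A] B)))
      ((app_res q.ι _ y).symm.trans ((congrArg (app q.ι (Adeq.algOf A (B ⊗[A] B))) hy).trans (app_res q.ι _ y)))).trans (uEquiv_res _ _))
    obtain ⟨n, hn⟩ := (amitsur_module (R := A) (B := B) q.M).2 _ h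
    have hn0 : q.φ.hom n = 0 := by
      refine (amitsur_module (R := A) (B := B) q.N).1 ?_
      show (1 : B) ⊗ₜ[A] q.φ.hom n = (1 : B) ⊗ₜ[A] (0 : q.N)
      rw [TensorProduct.tmul_zero, ← LinearMap.baseChange_tmul, hn]
      exact (uEquiv_map q.φ (Adeq.algOf A B) _).symm.trans
        ((congrArg (uEquiv q.N (Adeq.algOf A B)) ((q.mem (Adeq.algOf A B) _).2 ⟨y, rfl⟩)).trans (map_zero (uEquiv q.N (Adeq.algOf A B))))
    obtain ⟨x, hx⟩ := (q.mem (Adeq.algOf A A) ((uEquiv q.M (Adeq.algOf A A)).symm ((1 : A) ⊗ₜ[A] n))).1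
      ((uEquiv q.N (Adeq.algOf A A)).injective (by
        rw [uEquiv_map, LinearEquiv.apply_symm_apply, map_zero, LinearMap.baseChange_tmul, hn0, TensorProduct.tmul_zero]))
    refine ⟨x, q.inj _ ((uEquiv q.M _).injective ?_)⟩
    rw [app_res, uEquiv_res, hx, LinearEquiv.apply_symm_apply, hi, TensorProduct.lid_tmul, one_smul]
    exact hn

end Groth.Agent.AdeqLib
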