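import Groth.Agent.AdeqLib.FFDescent

/-!
# Descent for adequate functors along finite faithfully flat families
-/

set_option autoImplicit false
set_option backward.isDefEq.respectTransparency false
set_option backward.isDefEq.respectTransparency.types false
universe u v

namespace Groth.Agent.AdeqLib

open CategoryTheory Limits Opposite TensorProduct

theorem amitsur_family {R : Type u} [CommRing R] {ι : Type u} [Finite ι] (C : ι → Type u) [∀ i, CommRing (C i)]
    [∀ i, Algebra R (C i)] [Module.FaithfullyFlat R (∀ i, C i)] (N : Type v) [AddCommGroup N] [Module R N] :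
    (∀ n : N, (∀ i, (1 : C i) ⊗ₜ[R] n = 0) → n = 0) ∧ ∀ y : ∀ i, C i ⊗[R] N,
      (∀ i j, (Algebra.TensorProduct.includeLeft (R := R) (S := R) (A := C i) (B := C j)).toLinearMap.rTensor N (y i) =
        (Algebra.TensorProduct.includeRight (R := R) (A := C i) (B := C j)).toLinearMap.rTensor N (y j)) →
      ∃ n : N, ∀ i, (1 : C i) ⊗ₜ[R] n = y i := by
  classical
  haveI := Fintype.ofFinite ι
  let e : ∀ i, C i →ₗ[R] (∀ i, C i) := fun i => LinearMap.single R C i
  let pr : ∀ i, (∀ i, C i) →ₗ[R] C i := fun i => LinearMap.proj i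
  have hsum : ∀ x : ∀ i, C i, ∑ i, e i (x i) = x := fun x => Finset.univ_sum_single x
  obtain ⟨hinj, hglue⟩ := amitsur_module (R := R) (B := ∀ i, C i) N
  refine ⟨fun n hn => hinj ?_, fun y hy => ?_⟩
  · show (1 : ∀ i, C i) ⊗ₜ[R] n = (1 : ∀ i, C i) ⊗ₜ[R] (0 : N)
    rw [TensorProduct.tmul_zero, ← hsum 1, TensorProduct.sum_tmul]
    refine Finset.sum_eq_zero fun i _ => ?_
    have h := congrArg ((e i).rTensor N) (hn i)
    rwa [LinearMap.rTensor_tmul, map_zero] at h
  · have hleft : ∀ i (z : C i ⊗[R] N),
        (Algebra.TensorProduct.includeLeft (R := R) (S := R) (A := ∀ i, C i) (B := ∀ i, C i)).toLinearMap.rTensor N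
            ((e i).rTensor N z) =
          ∑ j, (TensorProduct.map (e i) (e j)).rTensor N
            ((Algebra.TensorProduct.includeLeft (R := R) (S := R) (A := C i) (B := C j)).toLinearMap.rTensor N z) := by
      intro i z
      induction z using TensorProduct.induction_on with
      | zero => simp
      | tmul c n =>
        simp only [LinearMap.rTensor_tmul, AlgHom.toLinearMap_apply, Algebra.TensorProduct.includeLeft_apply,
          TensorProduct.map_tmul, ← TensorProduct.sum_tmul, ← TensorProduct.tmul_sum]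
        rw [show (∑ j, e j (1 : C j)) = (1 : ∀ i, C i) from hsum 1]
      | add x x' hx hx' => simp only [map_add, Finset.sum_add_distrib, hx, hx']
    have hright : ∀ j (z : C j ⊗[R] N),
        (Algebra.TensorProduct.includeRight (R := R) (A := ∀ i, C i) (B := ∀ i, C i)).toLinearMap.rTensor N
            ((e j).rTensor N z) =
          ∑ i, (TensorProduct.map (e i) (e j)).rTensor N
            ((Algebra.TensorProduct.includeRight (R := R) (A := C i) (B := C j)).toLinearMap.rTensor N z) := by
      intro j z
      induction z using TensorProduct.induction_on with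
      | zero => simp
      | tmul c n =>
        simp only [LinearMap.rTensor_tmul, AlgHom.toLinearMap_apply, Algebra.TensorProduct.includeRight_apply,
          TensorProduct.map_tmul, ← TensorProduct.sum_tmul]
        rw [show (∑ i, e i (1 : C i)) = (1 : ∀ i, C i) from hsum 1]
      | add x x' hx hx' => simp only [map_add, Finset.sum_add_distrib, hx, hx']
    obtain ⟨n, hn⟩ := hglue (∑ i, (e i).rTensor N (y i)) (by
      simp only [map_sum, hleft, hright]
      rw [Finset.sum_comm (γ := ι)]
      exact Finset.sum_congr rfl fun i _ => Finset.sum_congr rfl fun j _ => congrArg _ (hy j i))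
    refine ⟨n, fun i => ?_⟩
    have h := congrArg ((pr i).rTensor N) hn
    rw [LinearMap.rTensor_tmul, map_sum] at h
    refine h.trans ((Finset.sum_eq_single i (fun j _ hj => ?_) (fun h' => absurd (Finset.mem_univ i) h')).trans ?_)
    · rw [← LinearMap.rTensor_comp_apply]
      have : pr i ∘ₗ e j = 0 := LinearMap.ext fun x => Pi.single_eq_of_ne (Ne.symm hj) x
      rw [this, LinearMap.rTensor_zero, LinearMap.zero_apply]
    · rw [← LinearMap.rTensor_comp_apply]
      have : pr i ∘ₗ e i = LinearMap.id := LinearMap.ext fun x => Pi.single_eq_same i x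
      rw [this, LinearMap.rTensor_id, LinearMap.id_apply]

variable {A : Type u} [CommRing A]

/-- Adequate functors satisfy descent for finite faithfully flat families of algebras. -/
theorem Pres.equalizer_family {F : Adeq.MVF A} (q : Pres F) {ι : Type u} [Finite ι] (C : ι → Adeq.Alg A)
    [Module.FaithfullyFlat A (∀ i, (C i : Type u))] :
    (∀ x : Val F (Adeq.algOf A A), (∀ i, res F (CommAlgCat.ofHom (Algebra.ofId A (C i)) : Adeq.algOf A A ⟶ C i) x = 0) → x = 0) ∧
      ∀ y : ∀ i, Val F (C i),
        (∀ i j, res F (CommAlgCat.ofHom (Algebra.TensorProduct.includeLeft : (C i : Type u) →ₐ[A] _) :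
            C i ⟶ Adeq.algOf A ((C i : Type u) ⊗[A] (C j : Type u))) (y i) =
          res F (CommAlgCat.ofHom (Algebra.TensorProduct.includeRight : (C j : Type u) →ₐ[A] _) :
            C j ⟶ Adeq.algOf A ((C i : Type u) ⊗[A] (C j : Type u))) (y j)) →
        ∃ x, ∀ i, res F (CommAlgCat.ofHom (Algebra.ofId A (C i)) : Adeq.algOf A A ⟶ C i) x = y i := by
  have hi : ∀ i (N : ModuleCat.{u + 1} A) (z : A ⊗[A] N),
      (Algebra.ofId A (C i)).toLinearMap.rTensor N z = (1 : C i) ⊗ₜ[A] TensorProduct.lid A N z := by
    intro i N z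
    induction z using TensorProduct.induction_on with
    | zero => simp
    | tmul r n =>
      rw [LinearMap.rTensor_tmul, TensorProduct.lid_tmul, TensorProduct.tmul_smul, TensorProduct.smul_tmul']
      refine congrArg (fun e => e ⊗ₜ[A] n) ?_
      show algebraMap A (C i) r = r • (1 : C i)
      rw [Algebra.algebraMap_eq_smul_one]
    | add x y hx hy => simp only [map_add, TensorProduct.tmul_add, hx, hy]
  have hres : ∀ {B B' : Adeq.Alg A} (g : B ⟶ B') (x : Val F B),
      uEquiv q.M B' (app q.ι B' (res F g x)) = g.hom.toLinearMap.rTensor q.M (uEquiv q.M B (app q.ι B x)) :=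
    fun g x => (congrArg _ (app_res q.ι g x)).trans (uEquiv_res _ _)
  refine ⟨fun x hx => ?_, fun y hy => ?_⟩
  · refine q.inj (Adeq.algOf A A) ((uEquiv q.M (Adeq.algOf A A)).injective ((TensorProduct.lid A q.M).injective ?_))
    rw [map_zero, map_zero, map_zero]
    refine (amitsur_family (R := A) (fun i => (C i : Type u)) q.M).1 _ fun i => ?_
    refine (hi i q.M _).symm.trans ((hres (CommAlgCat.ofHom (Algebra.ofId A (C i)) : Adeq.algOf A A ⟶ C i) x).symm.trans ?_)
    rw [hx i, map_zero, map_zero]
  · obtain ⟨n, hn⟩ := (amitsur_family (R := A) (fun i => (C i : Type u)) q.M).2 (fun i => uEquiv q.M (C i) (app q.ι (C i) (y i))) fun i j =>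
      (hres (CommAlgCat.ofHom (Algebra.TensorProduct.includeLeft : (C i : Type u) →ₐ[A] _) :
          C i ⟶ Adeq.algOf A ((C i : Type u) ⊗[A] (C j : Type u))) (y i)).symm.trans
        ((congrArg (fun v => uEquiv q.M (Adeq.algOf A ((C i : Type u) ⊗[A] (C j : Type u))) (app q.ι (Adeq.algOf A ((C i : Type u) ⊗[A] (C j : Type u))) v)) (hy i j)).trans (hres _ (y j)))
    have hn0 : q.φ.hom n = 0 := by
      refine (amitsur_family (R := A) (fun i => (C i : Type u)) q.N).1 _ fun i => ?_
      rw [← LinearMap.baseChange_tmul, hn i]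
      exact (uEquiv_map q.φ (C i) _).symm.trans
        ((congrArg (uEquiv q.N (C i)) ((q.mem (C i) _).2 ⟨y i, rfl⟩)).trans (map_zero (uEquiv q.N (C i))))
    obtain ⟨x, hx⟩ := (q.mem (Adeq.algOf A A) ((uEquiv q.M (Adeq.algOf A A)).symm ((1 : A) ⊗ₜ[A] n))).1
      ((uEquiv q.N (Adeq.algOf A A)).injective (by
        rw [uEquiv_map, LinearEquiv.apply_symm_apply, map_zero, LinearMap.baseChange_tmul, hn0, TensorProduct.tmul_zero]))
    refine ⟨x, fun i => q.inj (C i) ((uEquiv q.M (C i)).injective ?_)⟩
    rw [hres, hx, LinearEquiv.apply_symm_apply]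
    refine ((hi i q.M ((1 : A) ⊗ₜ[A] n)).trans ?_).trans (hn i)
    rw [TensorProduct.lid_tmul, one_smul]

end Groth.Agent.AdeqLib
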