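import Groth.Agent.AdeqLib.Basic

/-!
# Adequate functors commute with filtered colimits
-/

set_option autoImplicit false
set_option backward.isDefEq.respectTransparency false
set_option backward.isDefEq.respectTransparency.types false
universe u

namespace Groth.Agent.AdeqLib

open CategoryTheory Limits Opposite TensorProduct

variable {A : Type u} [CommRing A] {J : Type u} [SmallCategory J] [IsFiltered J] {D : J ⥤ Adeq.Alg A} {c : Cocone D}

theorem alg_colimit_props (hc : IsColimit c) :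
    (∀ b : c.pt, ∃ (i : J) (x : D.obj i), (c.ι.app i).hom x = b) ∧
      ∀ (i : J) (x : D.obj i), (c.ι.app i).hom x = 0 → ∃ (k : J) (f : i ⟶ k), (D.map f).hom x = 0 := by
  let G : Adeq.Alg A ⥤ Type u :=
    (commAlgCatEquivUnder (CommRingCat.of A)).functor ⋙ Under.forget _ ⋙ forget CommRingCat
  have hG := isColimitOfPreserves G hc
  refine ⟨fun b => Types.jointly_surjective_of_isColimit hG b, fun i x hx => ?_⟩
  obtain ⟨k, f, g, hfg⟩ := (Types.FilteredColimit.isColimit_eq_iff _ hG (xi := x) (xj := (0 : D.obj i))).1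
    (hx.trans (map_zero (c.ι.app i).hom).symm)
  exact ⟨k, f, hfg.trans (map_zero (D.map g).hom)⟩

/-- Base change along a map of algebras. -/
noncomputable def tr {B B' : Adeq.Alg A} (f : B ⟶ B') (M : Type (u + 1)) [AddCommGroup M] [Module A M] :
    B ⊗[A] M →ₗ[A] B' ⊗[A] M := f.hom.toLinearMap.rTensor M

theorem tr_comp {B B' B'' : Adeq.Alg A} (f : B ⟶ B') (g : B' ⟶ B'') (M : Type (u + 1)) [AddCommGroup M]
    [Module A M] (z : B ⊗[A] M) : tr (f ≫ g) M z = tr g M (tr f M z) :=
  LinearMap.rTensor_comp_apply M g.hom.toLinearMap f.hom.toLinearMap z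

theorem tr_cocone (i : J) {k : J} (f : i ⟶ k) (M : Type (u + 1)) [AddCommGroup M] [Module A M]
    (z : D.obj i ⊗[A] M) : tr (c.ι.app k) M (tr (D.map f) M z) = tr (c.ι.app i) M z :=
  (tr_comp _ _ M z).symm.trans (congrArg (fun v => tr v M z) (c.w f))

theorem tr_lTensor {M N : Type (u + 1)} [AddCommGroup M] [Module A M] [AddCommGroup N] [Module A N]
    (g : M →ₗ[A] N) {B B' : Adeq.Alg A} (f : B ⟶ B') (z : B ⊗[A] M) :
    g.lTensor B' (tr f M z) = tr f N (g.lTensor B z) := by
  induction z using TensorProduct.induction_on with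
  | zero => simp
  | tmul b m => simp [tr]
  | add x y hx hy => simp only [map_add, hx, hy]

theorem tensor_surj (hc : IsColimit c) (M : Type (u + 1)) [AddCommGroup M] [Module A M] (w : c.pt ⊗[A] M) :
    ∃ (i : J) (z : D.obj i ⊗[A] M), tr (c.ι.app i) M z = w := by
  induction w using TensorProduct.induction_on with
  | zero => exact ⟨IsFiltered.nonempty.some, 0, map_zero _⟩
  | tmul b m =>
    obtain ⟨i, x, rfl⟩ := (alg_colimit_props hc).1 b
    exact ⟨i, x ⊗ₜ m, rfl⟩
  | add x y hx hy =>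
    obtain ⟨i, z, rfl⟩ := hx
    obtain ⟨j, z', rfl⟩ := hy
    refine ⟨IsFiltered.max i j, tr (D.map (IsFiltered.leftToMax i j)) M z + tr (D.map (IsFiltered.rightToMax i j)) M z', ?_⟩
    rw [map_add, tr_cocone, tr_cocone]

theorem finsupp_eventually_zero (hc : IsColimit c) {X : Type (u + 1)} (i : J) (p : X →₀ D.obj i)
    (hp : ∀ x, (c.ι.app i).hom (p x) = 0) : ∃ (k : J) (f : i ⟶ k), ∀ x, (D.map f).hom (p x) = 0 := by
  classical
  have h : ∀ s : Finset X, ∃ (k : J) (f : i ⟶ k), ∀ x ∈ s, (D.map f).hom (p x) = 0 := by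
    intro s
    induction s using Finset.induction_on with
    | empty => exact ⟨i, 𝟙 i, fun x hx => absurd hx (Finset.notMem_empty x)⟩
    | @insert a s ha ih =>
      obtain ⟨k, f, hf⟩ := ih
      obtain ⟨l, g, hg⟩ := (alg_colimit_props hc).2 k ((D.map f).hom (p a)) (by
        rw [← AlgHom.comp_apply, ← CommAlgCat.hom_comp, c.w]; exact hp a)
      refine ⟨l, f ≫ g, fun x hx => ?_⟩
      rw [D.map_comp, CommAlgCat.hom_comp, AlgHom.comp_apply]
      rcases Finset.mem_insert.1 hx with rfl | hx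
      · exact hg
      · rw [hf x hx, map_zero]
  obtain ⟨k, f, hf⟩ := h p.support
  refine ⟨k, f, fun x => ?_⟩
  by_cases hx : x ∈ p.support
  · exact hf x hx
  · rw [Finsupp.notMem_support_iff.1 hx, map_zero]

theorem tensor_inj (hc : IsColimit c) (M : Type (u + 1)) [AddCommGroup M] [Module A M] (i : J)
    (z : D.obj i ⊗[A] M) (hz : tr (c.ι.app i) M z = 0) :
    ∃ (k : J) (f : i ⟶ k), tr (D.map f) M z = 0 := by
  classical
  let π : (M →₀ A) →ₗ[A] M := Finsupp.linearCombination A id
  have hπ : Function.Surjective π := fun m => ⟨Finsupp.single m 1, by simp [π]⟩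
  have hex : ∀ B : Adeq.Alg A, Function.Exact ((LinearMap.ker π).subtype.lTensor B) (π.lTensor B) := fun B =>
    lTensor_exact (M := LinearMap.ker π) (N := M →₀ A) (P := M) B (LinearMap.exact_subtype_ker_map π) hπ
  obtain ⟨z, rfl⟩ := LinearMap.lTensor_surjective (D.obj i) hπ z
  rw [← tr_lTensor] at hz
  obtain ⟨w, hw⟩ := (hex c.pt _).1 hz
  obtain ⟨j, w, rfl⟩ := tensor_surj hc ↥(LinearMap.ker π) w
  let k := IsFiltered.max i j
  let d : D.obj k ⊗[A] (M →₀ A) := tr (D.map (IsFiltered.leftToMax i j)) _ z -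
    (LinearMap.ker π).subtype.lTensor (D.obj k) (tr (D.map (IsFiltered.rightToMax i j)) ↥(LinearMap.ker π) w)
  have hd : tr (c.ι.app k) _ d = 0 := by
    rw [map_sub, tr_cocone]
    refine sub_eq_zero.2 (Eq.trans ?_ (tr_lTensor (M := ↥(LinearMap.ker π)) _ (c.ι.app k) _))
    exact hw.symm.trans (congrArg _ (tr_cocone j (IsFiltered.rightToMax i j) ↥(LinearMap.ker π) w).symm)
  have hnat : ∀ {B B' : Adeq.Alg A} (f : B ⟶ B') (q : B ⊗[A] (M →₀ A)) (x : M),
      TensorProduct.finsuppScalarRight A A B' M (tr f _ q) x =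
        f.hom (TensorProduct.finsuppScalarRight A A B M q x) := by
    intro B B' f q x
    induction q using TensorProduct.induction_on with
    | zero => simp
    | tmul b m => simp [tr, TensorProduct.finsuppScalarRight_apply_tmul_apply]
    | add p q hp hq => simp only [map_add, Finsupp.add_apply, hp, hq]
  obtain ⟨l, g, hg⟩ := finsupp_eventually_zero hc k (TensorProduct.finsuppScalarRight A A (D.obj k) M d)
    fun x => by rw [← hnat, hd, map_zero]; rfl
  refine ⟨l, IsFiltered.leftToMax i j ≫ g, ?_⟩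
  have h0 : tr (D.map g) _ d = 0 :=
    (TensorProduct.finsuppScalarRight A A (D.obj l) M).injective (Finsupp.ext fun x => by rw [hnat, hg, map_zero]; rfl)
  rw [← tr_lTensor, D.map_comp, tr_comp]
  have h1 := congrArg (π.lTensor (D.obj l)) h0
  rw [map_sub, map_sub, map_zero, sub_eq_zero] at h1
  refine h1.trans ?_
  refine (congrArg (π.lTensor (D.obj l)) (tr_lTensor (M := ↥(LinearMap.ker π)) _ (D.map g) _).symm).trans ?_
  exact (hex (D.obj l)).apply_apply_eq_zero _

/-- A criterion for colimits of abelian groups. -/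
theorem isColimit_ab {F : J ⥤ Ab.{u + 1}} (t : Cocone F)
    (hs : ∀ y : t.pt, ∃ (i : J) (x : F.obj i), (t.ι.app i).hom x = y)
    (hz : ∀ (i : J) (x : F.obj i), (t.ι.app i).hom x = 0 → ∃ (k : J) (f : i ⟶ k), (F.map f).hom x = 0) :
    Nonempty (IsColimit t) := by
  choose I X hX using hs
  let ι : ∀ i, F.obj i →+ t.pt := fun i => (t.ι.app i).hom
  have hι : ∀ {i k : J} (f : i ⟶ k) (x : F.obj i), ι k ((F.map f).hom x) = ι i x := fun f x =>
    congrArg (fun v : F.obj _ ⟶ t.pt => v.hom x) (t.w f)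
  have hσ : ∀ (s : Cocone F) {i k : J} (f : i ⟶ k) (x : F.obj i),
      (s.ι.app k).hom ((F.map f).hom x) = ((s.ι.app i).hom x : s.pt) := fun s i k f x =>
    congrArg (fun v : F.obj _ ⟶ s.pt => v.hom x) (s.w f)
  have key : ∀ (s : Cocone F) (i : J) (x : F.obj i) (y : t.pt), ι i x = y →
      ((s.ι.app i).hom x : s.pt) = (s.ι.app (I y)).hom (X y) := by
    intro s i x y hy
    let f := IsFiltered.leftToMax i (I y)
    let g := IsFiltered.rightToMax i (I y)
    obtain ⟨l, h, hl⟩ := hz (IsFiltered.max i (I y)) ((F.map f).hom x - (F.map g).hom (X y)) (by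
      show ι _ _ = 0
      rw [map_sub, hι, hι, hy, sub_eq_zero]
      exact (hX y).symm)
    rw [map_sub, sub_eq_zero] at hl
    have h1 := congrArg (fun v => ((s.ι.app l).hom v : s.pt)) hl
    simp only [hσ] at h1
    exact h1
  refine ⟨{
    desc := fun s => AddCommGrpCat.ofHom (AddMonoidHom.mk' (fun y => ((s.ι.app (I y)).hom (X y) : s.pt)) fun a b => ?_)
    fac := fun s i => ?_
    uniq := fun s m hm => ?_ }⟩
  · let f := IsFiltered.leftToMax (I a) (I b)
    let g := IsFiltered.rightToMax (I a) (I b)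
    refine (key s (IsFiltered.max (I a) (I b)) ((F.map f).hom (X a) + (F.map g).hom (X b)) (a + b) (by
      rw [map_add, hι, hι]; exact congrArg₂ (· + ·) (hX a) (hX b))).symm.trans ?_
    refine (map_add (s.ι.app _).hom _ _).trans ?_
    exact congrArg₂ (· + ·) (hσ s f _) (hσ s g _)
  · refine AddCommGrpCat.ext fun x => ?_
    exact (key s i x _ rfl).symm
  · refine AddCommGrpCat.ext fun y => ?_
    show m.hom y = ((s.ι.app (I y)).hom (X y) : s.pt)
    rw [← hm (I y)]
    exact congrArg m.hom (hX y).symm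

/-- Adequate functors commute with filtered colimits. -/
theorem Pres.isColimit_toAb {F : Adeq.MVF A} (q : Pres F) (hc : IsColimit c) :
    Nonempty (IsColimit (F.toAb.mapCocone c)) := by
  refine isColimit_ab _ (fun y => ?_) fun i x hx => ?_
  · change Val F c.pt at y
    obtain ⟨i, z, hz⟩ := tensor_surj hc q.M (uEquiv q.M c.pt (app q.ι c.pt y))
    have h0 : tr (c.ι.app i) q.N (q.φ.hom.lTensor (D.obj i) z) = 0 := by
      rw [← tr_lTensor, hz]
      have h1 := congrArg (uEquiv q.N c.pt) ((q.mem c.pt _).2 ⟨y, rfl⟩)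
      rwa [uEquiv_map, map_zero] at h1
    obtain ⟨k, f, hf⟩ := tensor_inj hc q.N i _ h0
    rw [← tr_lTensor] at hf
    obtain ⟨w, hw⟩ := (q.mem (D.obj k) ((uEquiv q.M (D.obj k)).symm (tr (D.map f) q.M z))).1 ((uEquiv q.N (D.obj k)).injective (by
      rw [uEquiv_map, LinearEquiv.apply_symm_apply, map_zero]; exact hf))
    refine ⟨k, w, ?_⟩
    let e : D.obj k ⟶ c.pt := c.ι.app k
    show res F e w = y
    refine q.inj c.pt ((uEquiv q.M c.pt).injective ?_)
    rw [app_res, uEquiv_res, hw, LinearEquiv.apply_symm_apply, ← hz]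
    exact tr_cocone i f q.M z
  · change Val F (D.obj i) at x
    let e : D.obj i ⟶ c.pt := c.ι.app i
    have hx' : res F e x = 0 := hx
    obtain ⟨k, f, hf⟩ := tensor_inj hc q.M i (uEquiv q.M (D.obj i) (app q.ι (D.obj i) x)) (by
      have h1 := congrArg (fun v => uEquiv q.M c.pt (app q.ι c.pt v)) hx'
      simp only [app_res, uEquiv_res, map_zero] at h1
      exact h1)
    refine ⟨k, f, ?_⟩
    show res F (D.map f) x = 0
    refine q.inj _ ((uEquiv q.M (D.obj k)).injective ?_)
    rw [app_res, uEquiv_res, map_zero, map_zero]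
    exact hf

end Groth.Agent.AdeqLib
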