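import Groth.Agent.AdeqLib.Basic

/-!
# Flat base change for adequate functors
-/

set_option autoImplicit false
set_option backward.isDefEq.respectTransparency false
set_option backward.isDefEq.respectTransparency.types false
set_option maxHeartbeats 800000
universe u

namespace Groth.Agent.AdeqLib

open CategoryTheory Limits Opposite TensorProduct

variable {A : Type u} [CommRing A] {F : Adeq.MVF A} {B B' : Adeq.Alg A} (f : B ⟶ B')

theorem bc_tmul (b' : B') (x : Val F B) :
    letI := f.hom.toRingHom.toAlgebra
    (F.bc f).hom (b' ⊗ₜ[(B : Type u)] x) = b' • res F f x := by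
  rfl

theorem Pres.bijective_bc (q : Pres F) (hf : f.hom.toRingHom.Flat) : Function.Bijective (F.bc f).hom := by
  letI := f.hom.toRingHom.toAlgebra
  haveI : IsScalarTower A B B' := IsScalarTower.of_algebraMap_eq fun a => (f.hom.commutes a).symm
  haveI : Module.Flat B B' := hf
  let e : ∀ M : ModuleCat.{u + 1} A, (B' : Type u) ⊗[(B : Type u)] ((B : Type u) ⊗[A] M) ≃ₗ[(B' : Type u)] B' ⊗[A] M :=
    fun M => TensorProduct.AlgebraTensorModule.cancelBaseChange A B B' B' M
  let ιB : Val F B →ₗ[(B : Type u)] B ⊗[A] q.M := (uEquiv q.M B).toLinearMap ∘ₗ app q.ι B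
  have hex : Function.Exact ιB (q.φ.hom.baseChange B) := fun z => by
    constructor
    · intro hz
      obtain ⟨y, hy⟩ := (q.mem B ((uEquiv q.M B).symm z)).1 ((uEquiv q.N B).injective (by
        rw [uEquiv_map, LinearEquiv.apply_symm_apply, map_zero]; exact hz))
      exact ⟨y, by show uEquiv q.M B (app q.ι B y) = z; rw [hy, LinearEquiv.apply_symm_apply]⟩
    · rintro ⟨y, rfl⟩
      have h1 := congrArg (uEquiv q.N B) ((q.mem B _).2 ⟨y, rfl⟩)
      rwa [uEquiv_map, map_zero] at h1
  have hnat : ∀ z : (B' : Type u) ⊗[(B : Type u)] ((B : Type u) ⊗[A] q.M),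
      e q.N ((q.φ.hom.baseChange B).lTensor B' z) = q.φ.hom.baseChange B' (e q.M z) := by
    intro z
    induction z using TensorProduct.induction_on with
    | zero => simp
    | tmul b' w =>
      induction w using TensorProduct.induction_on with
      | zero => simp
      | tmul b m => simp [e]
      | add x y hx hy => simp only [TensorProduct.tmul_add, map_add, hx, hy]
    | add x y hx hy => simp only [map_add, hx, hy]
  have hres : ∀ (b' : B') (w : (B : Type u) ⊗[A] q.M), e q.M (b' ⊗ₜ w) = b' • f.hom.toLinearMap.rTensor q.M w := by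
    intro b' w
    induction w using TensorProduct.induction_on with
    | zero => simp
    | tmul b m =>
      simp only [e, TensorProduct.AlgebraTensorModule.cancelBaseChange_tmul, LinearMap.rTensor_tmul,
        TensorProduct.smul_tmul', Algebra.smul_def, smul_eq_mul]
      rw [mul_comm]
      rfl
    | add x y hx hy => simp only [TensorProduct.tmul_add, map_add, smul_add, hx, hy]
  have key : ∀ z : (B' : Type u) ⊗[(B : Type u)] Val F B,
      uEquiv q.M B' (app q.ι B' ((F.bc f).hom z)) = e q.M (ιB.lTensor B' z) := by
    intro z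
    induction z using TensorProduct.induction_on with
    | zero => exact (congrArg (fun v => uEquiv q.M B' (app q.ι B' v)) (map_zero (F.bc f).hom)).trans (by simp)
    | tmul b' x =>
      rw [LinearMap.lTensor_tmul, hres, bc_tmul, map_smul, map_smul, app_res, uEquiv_res]
      rfl
    | add x y hx hy =>
      refine (congrArg (fun v => uEquiv q.M B' (app q.ι B' v)) (map_add (F.bc f).hom x y)).trans ?_
      simp only [map_add]
      exact congrArg₂ (· + ·) hx hy
  have hinj : Function.Injective (ιB.lTensor B') :=
    Module.Flat.lTensor_preserves_injective_linearMap ιB ((uEquiv q.M B).injective.comp (q.inj B))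
  have hexact : Function.Exact (ιB.lTensor B') ((q.φ.hom.baseChange B).lTensor B') := Module.Flat.lTensor_exact B' hex
  refine ⟨fun z z' h => hinj ((e q.M).injective (by rw [← key, ← key]; exact congrArg (fun v => uEquiv q.M B' (app q.ι B' v)) h)),
    fun y => ?_⟩
  obtain ⟨z, hz⟩ := (hexact ((e q.M).symm (uEquiv q.M B' (app q.ι B' y)))).1 ((e q.N).injective (by
    rw [hnat, LinearEquiv.apply_symm_apply, map_zero, ← uEquiv_map, (q.mem B' _).2 ⟨y, rfl⟩, map_zero]))
  exact ⟨z, q.inj B' ((uEquiv q.M B').injective (by rw [key, hz, LinearEquiv.apply_symm_apply]))⟩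

theorem isIso_bc (hF : Adeq.adequate A F) (hf : f.hom.toRingHom.Flat) : IsIso (F.bc f) :=
  (ConcreteCategory.isIso_iff_bijective _).2 ((exists_pres hF).some.bijective_bc f hf)

end Groth.Agent.AdeqLib
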