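import Groth.Agent.AdeqLib.Rep

/-!
# Maps out of linearly adequate functors
-/

set_option autoImplicit false
set_option backward.isDefEq.respectTransparency false
universe u

namespace Groth.Agent.AdeqLib

open CategoryTheory Limits Opposite TensorProduct

variable {A : Type u} [CommRing A]

/-- Coordinates on a linearly adequate functor. -/
structure LinPres (L : Adeq.MVF A) where
  m : ℕ
  n : ℕ
  a : Fin m → Fin n → A
  co : ∀ B : Adeq.Alg A, Val L B →ₗ[B] (Fin n → B)
  inj : ∀ B, Function.Injective (co B)
  mem : ∀ (B : Adeq.Alg A) (y : Fin n → B), IsSol a B y ↔ ∃ x, co B x = y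
  nat : ∀ {B B' : Adeq.Alg A} (f : B ⟶ B') (x : Val L B) (i : Fin n), co B' (res L f x) i = f.hom (co B x i)

variable {L G : Adeq.MVF A} (p : LinPres L)

/-- The element with given coordinates. -/
noncomputable def LinPres.elt {B : Adeq.Alg A} (y : Fin p.n → B) (hy : IsSol p.a B y) : Val L B :=
  ((p.mem B y).1 hy).choose

theorem LinPres.co_elt {B : Adeq.Alg A} (y : Fin p.n → B) (hy : IsSol p.a B y) : p.co B (p.elt y hy) = y :=
  ((p.mem B y).1 hy).choose_spec

theorem LinPres.isSol {B : Adeq.Alg A} (x : Val L B) : IsSol p.a B (p.co B x) := (p.mem B _).2 ⟨x, rfl⟩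

/-- The generic element. -/
noncomputable def LinPres.gen : Val L (repAlg p.a) := p.elt (AdeqLib.gen p.a) (isSol_gen p.a)

theorem LinPres.res_classify_gen {B : Adeq.Alg A} (y : Fin p.n → B) (hy : IsSol p.a B y) :
    res L (classify p.a y hy) p.gen = p.elt y hy :=
  p.inj B (funext fun i => by rw [p.nat, LinPres.gen, p.co_elt, classify_gen, p.co_elt])

theorem LinPres.eq_res {B : Adeq.Alg A} (x : Val L B) : x = res L (classify p.a (p.co B x) (p.isSol x)) p.gen :=
  p.inj B (by rw [p.res_classify_gen, p.co_elt])

theorem LinPres.hom_ext' {φ ψ : L ⟶ G} (h : app φ (repAlg p.a) p.gen = app ψ (repAlg p.a) p.gen) : φ = ψ :=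
  hom_ext fun B x => by rw [p.eq_res x, app_res, app_res, h]

theorem LinPres.gen_homog : IsHomog (G := L) p.a p.gen := by
  refine p.inj _ (funext fun i => ?_)
  rw [map_smul, Pi.smul_apply, p.nat, p.nat, LinPres.gen, p.co_elt, scale, classify_gen]
  rfl

variable {η : Val G (repAlg p.a)}

/-- A homogeneous generic value with additive transformation gives a morphism. -/
noncomputable def LinPres.desc (hη : IsHomog p.a η)
    (hadd : ∀ (B : Adeq.Alg A) (y z : Fin p.n → B) (hy : IsSol p.a B y) (hz : IsSol p.a B z)
      (hyz : IsSol p.a B (y + z)), trans p.a η B (y + z) hyz = trans p.a η B y hy + trans p.a η B z hz) :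
    L ⟶ G :=
  homMk (fun B =>
    { toFun := fun x => trans p.a η B (p.co B x) (p.isSol x)
      map_add' := fun x y => by
        rw [← hadd B _ _ (p.isSol x) (p.isSol y) (map_add (p.co B) x y ▸ p.isSol (x + y))]
        simp only [trans, map_add]
      map_smul' := fun b x => by
        simp only [RingHom.id_apply, ← trans_smul p.a hη B b _ (p.isSol x)]
        simp only [trans, map_smul]
        rfl })
    fun {B B'} f x => by
      show trans p.a η B' (p.co B' (res L f x)) _ = res G f (trans p.a η B (p.co B x) _)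
      rw [← trans_map p.a η f]
      simp only [trans]
      rw [classify_congr p.a (funext fun i => p.nat f x i)]

theorem LinPres.app_desc_gen (hη : IsHomog p.a η) (hadd) : app (p.desc hη hadd) (repAlg p.a) p.gen = η := by
  show trans p.a η (repAlg p.a) (p.co (repAlg p.a) p.gen) (p.isSol p.gen) = η
  simp only [trans, LinPres.gen, p.co_elt, classify_gen_self, res_id]

/-- Maps from a linearly adequate functor to an underlined module extend to the ambient free module. -/
theorem LinPres.exists_coeff (M : ModuleCat.{u + 1} A) (φ : L ⟶ (Adeq.underline A).obj M) :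
    ∃ μ : Fin p.n → M, ∀ (B : Adeq.Alg A) (x : Val L B), uEquiv M B (app φ B x) = ∑ i, p.co B x i ⊗ₜ[A] μ i := by
  obtain ⟨μ, hμ⟩ := exists_eq_sum p.a M (fun B y hy => uEquiv M B (app φ B (p.elt y hy)))
    (fun {B B'} f y hy => by
      rw [← uEquiv_res, ← app_res]
      refine congrArg _ (congrArg _ (p.inj B' (funext fun i => ?_)))
      rw [p.co_elt, p.nat, p.co_elt])
    (fun B b y hy => by
      rw [← map_smul, ← map_smul]
      refine congrArg _ (congrArg _ (p.inj B (funext fun i => ?_)))
      rw [p.co_elt, map_smul, p.co_elt]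
      rfl)
  refine ⟨μ, fun B x => ?_⟩
  rw [← hμ B _ (p.isSol x)]
  exact congrArg _ (congrArg _ (p.inj B (p.co_elt _ _).symm))

/-- Homogeneous values in an underlined module come from degree one. -/
theorem coeffOne_scale_range {m n : ℕ} (a : Fin m → Fin n → A) (M : ModuleCat.{u + 1} A) (z : repAlg a ⊗[A] M) :
    ∃ μ : Fin n → M,
      ((coeffOne (repAlg a)).comp (scale a).hom.toLinearMap).rTensor M z = ∑ i, gen a i ⊗ₜ[A] μ i := by
  induction z using TensorProduct.induction_on with
  | zero => exact ⟨0, by simp⟩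
  | tmul x y =>
    obtain ⟨f, rfl⟩ := repMk_surjective a x
    obtain ⟨r, hr⟩ := (Submodule.mem_span_range_iff_exists_fun A).1 (coeff_scale a f).2
    refine ⟨fun i => r i • y, ?_⟩
    rw [LinearMap.rTensor_tmul, LinearMap.comp_apply]
    show coeffOne (repAlg a) ((scale a).hom (repMk a f)) ⊗ₜ[A] y = _
    rw [← hr, TensorProduct.sum_tmul]
    exact Finset.sum_congr rfl fun i _ => TensorProduct.smul_tmul _ _ _
  | add x y hx hy =>
    obtain ⟨μ, hμ⟩ := hx
    obtain ⟨ν, hν⟩ := hy
    exact ⟨μ + ν, by simp only [map_add, hμ, hν, Pi.add_apply, TensorProduct.tmul_add, Finset.sum_add_distrib]⟩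

/-- Polynomial coefficient maps. -/
noncomputable def coeffK (B : Adeq.Alg A) (k : ℕ) : polyAlg B →ₗ[A] B :=
  (Polynomial.lcoeff B k).restrictScalars A

theorem coeffK_one (B : Adeq.Alg A) : coeffK B 1 = coeffOne B := rfl

theorem coeffK_X_pow_mul (B : Adeq.Alg A) (k l : ℕ) (x : B) :
    coeffK B k (polyX B ^ l * (polyC B).hom x) = if k = l then x else 0 := by
  show Polynomial.coeff ((Polynomial.X : Polynomial B) ^ l * Polynomial.C x) k = _
  rw [Polynomial.coeff_mul_C, Polynomial.coeff_X_pow]
  split_ifs <;> simp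

theorem rTensor_coeffK (M : Type (u + 1)) [AddCommGroup M] [Module A M] (B : Adeq.Alg A) (k l : ℕ) (z : B ⊗[A] M) :
    (coeffK B k).rTensor M (polyX B ^ l • (polyC B).hom.toLinearMap.rTensor M z) = if k = l then z else 0 := by
  induction z using TensorProduct.induction_on with
  | zero => simp
  | tmul x y =>
    rw [LinearMap.rTensor_tmul, TensorProduct.smul_tmul', LinearMap.rTensor_tmul, smul_eq_mul]
    rw [show coeffK B k (polyX B ^ l * (polyC B).hom.toLinearMap x) = _ from coeffK_X_pow_mul B k l x]
    split_ifs <;> simp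
  | add x y hx hy => simp only [map_add, smul_add, hx, hy]; split_ifs <;> simp

theorem poly_decomp_tensor (M : Type (u + 1)) [AddCommGroup M] [Module A M] (B : Adeq.Alg A) (z : polyAlg B ⊗[A] M) :
    ∃ N, ∀ N' ≥ N, z = ∑ k ∈ Finset.range N', polyX B ^ k • (polyC B).hom.toLinearMap.rTensor M
      ((coeffK B k).rTensor M z) := by
  induction z using TensorProduct.induction_on with
  | zero => exact ⟨0, fun N' _ => by simp⟩
  | tmul x y =>
    change Polynomial B at x
    refine ⟨x.natDegree + 1, fun N' hN' => ?_⟩
    conv_lhs => rw [Polynomial.as_sum_range' x N' (by omega)]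
    rw [TensorProduct.sum_tmul]
    refine Finset.sum_congr rfl fun k _ => ?_
    rw [LinearMap.rTensor_tmul, LinearMap.rTensor_tmul, TensorProduct.smul_tmul', smul_eq_mul]
    refine congrArg (fun e => e ⊗ₜ[A] y) ?_
    show Polynomial.monomial k (x.coeff k) = (Polynomial.X : Polynomial B) ^ k * Polynomial.C (x.coeff k)
    rw [Polynomial.X_pow_mul, Polynomial.C_mul_X_pow_eq_monomial]
  | add x y hx hy =>
    obtain ⟨N, hN⟩ := hx
    obtain ⟨N₂, hN₂⟩ := hy
    refine ⟨N + N₂, fun N' hN' => ?_⟩
    conv_lhs => rw [hN N' (by omega), hN₂ N' (by omega)]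
    simp only [map_add, smul_add, Finset.sum_add_distrib]

theorem baseChange_rTensor {M N : ModuleCat.{u + 1} A} (φ : M ⟶ N) {B B' : Adeq.Alg A} (f : B →ₗ[A] B')
    (z : B ⊗[A] M) : φ.hom.baseChange B' (f.rTensor M z) = f.rTensor N (φ.hom.baseChange B z) := by
  induction z using TensorProduct.induction_on with
  | zero => simp
  | tmul x y => simp
  | add x y hx hy => simp [map_add, hx, hy]

/-- The `A`-linear change of the coefficient algebra preserves an adequate functor. -/
theorem Pres.exists_rTensor {F : Adeq.MVF A} (q : Pres F) {B B' : Adeq.Alg A} (f : B →ₗ[A] B') (x : Val F B) :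
    ∃ y : Val F B', uEquiv q.M B' (app q.ι B' y) = f.rTensor q.M (uEquiv q.M B (app q.ι B x)) := by
  obtain ⟨y, hy⟩ := (q.mem B' ((uEquiv q.M B').symm (f.rTensor q.M (uEquiv q.M B (app q.ι B x))))).1 (by
    refine (uEquiv q.N B').injective ?_
    rw [uEquiv_map, LinearEquiv.apply_symm_apply, map_zero, baseChange_rTensor, ← uEquiv_map,
      (q.mem B _).2 ⟨x, rfl⟩, map_zero, map_zero])
  exact ⟨y, by rw [hy, LinearEquiv.apply_symm_apply]⟩

/-- Adequate functors on polynomial algebras. -/
theorem Pres.poly_decomp {F : Adeq.MVF A} (q : Pres F) (B : Adeq.Alg A) (z : Val F (polyAlg B)) :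
    ∃ (N : ℕ) (c : ℕ → Val F B), (∀ k, uEquiv q.M B (app q.ι B (c k)) =
        (coeffK B k).rTensor q.M (uEquiv q.M (polyAlg B) (app q.ι (polyAlg B) z))) ∧
      1 < N ∧ z = ∑ k ∈ Finset.range N, polyX B ^ k • res F (polyC B) (c k) := by
  choose c hc using fun k => q.exists_rTensor (coeffK B k) z
  obtain ⟨N, hN⟩ := poly_decomp_tensor q.M B (uEquiv q.M (polyAlg B) (app q.ι (polyAlg B) z))
  refine ⟨N + 2, c, hc, by omega, q.inj _ ((uEquiv q.M _).injective ?_)⟩
  rw [map_sum, map_sum]
  refine (hN (N + 2) (by omega)).trans (Finset.sum_congr rfl fun k _ => ?_)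
  rw [map_smul, map_smul, app_res, uEquiv_res, hc]

include p in
/-- Morphisms from linearly adequate functors lift along epimorphisms of adequate functors. -/
theorem LinPres.exists_lift {G' : Adeq.MVF A} (hG : Adeq.adequate A G) (hG' : Adeq.adequate A G')
    (π : G ⟶ G') (hπ : ∀ B, Function.Surjective (app π B)) (φ : L ⟶ G') : ∃ ψ : L ⟶ G, ψ ≫ π = φ := by
  obtain ⟨q⟩ := exists_pres hG
  obtain ⟨q'⟩ := exists_pres hG'
  obtain ⟨η, hη⟩ := hπ (repAlg p.a) (app φ (repAlg p.a) p.gen)
  obtain ⟨N, c, hc, hN, hdec⟩ := q.poly_decomp (repAlg p.a) (res G (scale p.a) η)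
  obtain ⟨μ, hμ⟩ := coeffOne_scale_range p.a q.M (uEquiv q.M (repAlg p.a) (app q.ι (repAlg p.a) η))
  have hι : uEquiv q.M (repAlg p.a) (app q.ι (repAlg p.a) (c 1)) = ∑ i, AdeqLib.gen p.a i ⊗ₜ[A] μ i := by
    rw [hc, app_res, uEquiv_res, ← hμ, LinearMap.rTensor_comp_apply]
    rfl
  have htrans : ∀ (B : Adeq.Alg A) (y : Fin p.n → B) (hy : IsSol p.a B y),
      uEquiv q.M B (app q.ι B (trans p.a (c 1) B y hy)) = ∑ i, y i ⊗ₜ[A] μ i := by
    intro B y hy
    rw [trans, app_res, uEquiv_res, hι, map_sum]
    simp only [LinearMap.rTensor_tmul, AlgHom.toLinearMap_apply, classify_gen]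
  have hhom : IsHomog p.a (c 1) := by
    refine q.inj _ ((uEquiv q.M _).injective ?_)
    rw [app_res, uEquiv_res, map_smul, map_smul, app_res, uEquiv_res, hι]
    simp only [map_sum, Finset.smul_sum, LinearMap.rTensor_tmul, AlgHom.toLinearMap_apply, scale, classify_gen,
      TensorProduct.smul_tmul', smul_eq_mul]
  refine ⟨p.desc hhom fun B y z hy hz hyz => q.inj B ((uEquiv q.M B).injective ?_), p.hom_ext' ?_⟩
  · rw [map_add, map_add, htrans, htrans, htrans, ← Finset.sum_add_distrib]
    simp only [Pi.add_apply, TensorProduct.add_tmul]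
  · rw [app_comp, p.app_desc_gen]
    refine q'.inj _ ((uEquiv q'.M _).injective ?_)
    have h1 : app π (polyAlg (repAlg p.a)) (res G (scale p.a) η) = polyX (repAlg p.a) • res G' (polyC (repAlg p.a)) (app φ (repAlg p.a) p.gen) := by
      rw [app_res, hη, ← app_res, show res L (scale p.a) p.gen = _ from p.gen_homog, map_smul, app_res]
    rw [hdec, map_sum] at h1
    have h2 := congrArg (fun w => (coeffK (repAlg p.a) 1).rTensor q'.M (uEquiv q'.M (polyAlg (repAlg p.a)) (app q'.ι (polyAlg (repAlg p.a)) w))) h1
    simp only [map_sum, map_smul, app_res, uEquiv_res] at h2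
    rw [← pow_one (polyX (repAlg p.a)), rTensor_coeffK, if_pos rfl] at h2
    rw [← h2]
    simp only [pow_one, rTensor_coeffK, Finset.sum_ite_eq, Finset.mem_range, hN, if_true]

/-- The doubled system. -/
def double {m n : ℕ} (a : Fin m → Fin n → A) : Fin (m + m) → Fin (n + n) → A :=
  Fin.addCases (fun j => Fin.addCases (a j) 0) fun j => Fin.addCases 0 (a j)

theorem isSol_double {m n : ℕ} (a : Fin m → Fin n → A) (B : Adeq.Alg A) (y : Fin (n + n) → B) :
    IsSol (double a) B y ↔ IsSol a B (fun i => y (i.castAdd n)) ∧ IsSol a B (fun i => y (i.natAdd n)) := by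
  have key : ∀ j, ∑ i, double a j i • y i = Fin.addCases (fun j => ∑ i, a j i • y (i.castAdd n))
      (fun j => ∑ i, a j i • y (i.natAdd n)) j := fun j => by
    induction j using Fin.addCases with
    | left j =>
      rw [Fin.addCases_left, Fin.sum_univ_add]
      simp only [double, Fin.addCases_left, Fin.addCases_right, Pi.zero_apply, zero_smul, Finset.sum_const_zero,
        add_zero]
    | right j =>
      rw [Fin.addCases_right, Fin.sum_univ_add]
      simp only [double, Fin.addCases_left, Fin.addCases_right, Pi.zero_apply, zero_smul, Finset.sum_const_zero,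
        zero_add]
  refine ⟨fun h => ⟨fun j => ?_, fun j => ?_⟩, fun h j => ?_⟩
  · have := (key (j.castAdd m)).symm.trans (h _)
    rwa [Fin.addCases_left] at this
  · have := (key (j.natAdd m)).symm.trans (h _)
    rwa [Fin.addCases_right] at this
  · rw [key]
    induction j using Fin.addCases with
    | left j => rw [Fin.addCases_left]; exact h.1 j
    | right j => rw [Fin.addCases_right]; exact h.2 j

/-- Additivity of a transformation modulo an underlined module. -/
theorem trans_add {m n : ℕ} (a : Fin m → Fin n → A) {M : ModuleCat.{u + 1} A} {η : Val G (repAlg a)}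
    (hη : IsHomog a η) (f : (Adeq.underline A).obj M ⟶ G) (hf : ∀ B, Function.Injective (app f B))
    (hD : ∀ (B : Adeq.Alg A) (y z : Fin n → B) (hy : IsSol a B y) (hz : IsSol a B z) (hyz : IsSol a B (y + z)),
      ∃ w, app f B w = trans a η B (y + z) hyz - trans a η B y hy - trans a η B z hz)
    (B : Adeq.Alg A) (y z : Fin n → B) (hy : IsSol a B y) (hz : IsSol a B z) (hyz : IsSol a B (y + z)) :
    trans a η B (y + z) hyz = trans a η B y hy + trans a η B z hz := by
  have hsum : ∀ (B : Adeq.Alg A) (w : Fin (n + n) → B), IsSol (double a) B w →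
      IsSol a B ((fun i => w (i.castAdd n)) + fun i => w (i.natAdd n)) := fun B w hw j => by
    simp only [Pi.add_apply, smul_add, Finset.sum_add_distrib, ((isSol_double a B w).1 hw).1 j,
      ((isSol_double a B w).1 hw).2 j, add_zero]
  choose D hDspec using fun (B : Adeq.Alg A) (w : Fin (n + n) → B) (hw : IsSol (double a) B w) =>
    hD B _ _ ((isSol_double a B w).1 hw).1 ((isSol_double a B w).1 hw).2 (hsum B w hw)
  obtain ⟨μ, hμ⟩ := exists_eq_sum (double a) M (fun B w hw => uEquiv M B (D B w hw))
    (fun {B B'} g w hw => by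
      rw [← uEquiv_res]
      refine congrArg _ (hf B' ?_)
      rw [hDspec, app_res, hDspec, map_sub, map_sub, ← trans_map, ← trans_map, ← trans_map]
      simp only [trans, Pi.add_apply, map_add]
      rfl)
    (fun B b w hw => by
      rw [← map_smul]
      refine congrArg _ (hf B ?_)
      rw [hDspec, map_smul, hDspec, smul_sub, smul_sub, ← trans_smul a hη, ← trans_smul a hη, ← trans_smul a hη]
      simp only [trans, Pi.add_apply, mul_add]
      rfl)
  have hzero : IsSol a B (0 : Fin n → B) := fun j => by simp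
  have htz : trans a η B (0 : Fin n → B) hzero = 0 := by
    have h0 := trans_smul a hη B 0 (0 : Fin n → B) hzero
    simp only [Pi.zero_apply, mul_zero, zero_smul] at h0
    exact h0
  have hk : ∀ (y z : Fin n → B) (hy : IsSol a B y) (hz : IsSol a B z) (hyz : IsSol a B (y + z)),
      ∃ w, app f B w = trans a η B (y + z) hyz - trans a η B y hy - trans a η B z hz ∧
        uEquiv M B w = ∑ i, y i ⊗ₜ[A] μ (i.castAdd n) + ∑ i, z i ⊗ₜ[A] μ (i.natAdd n) := by
    intro y z hy hz hyz
    have hw : IsSol (double a) B (Fin.append y z) := (isSol_double a B _).2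
      ⟨by simp only [Fin.append_left]; exact hy, by simp only [Fin.append_right]; exact hz⟩
    refine ⟨D B _ hw, ?_, ?_⟩
    · rw [hDspec]
      simp only [trans, Fin.append_left, Fin.append_right]
    · rw [hμ B _ hw, Fin.sum_univ_add]
      simp only [Fin.append_left, Fin.append_right]
  obtain ⟨w, hw, hwe⟩ := hk y z hy hz hyz
  obtain ⟨w₁, hw₁, hwe₁⟩ := hk y 0 hy hzero (by rwa [add_zero])
  obtain ⟨w₂, hw₂, hwe₂⟩ := hk 0 z hzero hz (by rwa [zero_add])
  have h1 : w₁ = 0 := hf B (by
    rw [hw₁, map_zero]
    simp only [htz, sub_zero]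
    simp only [trans, add_zero, sub_self])
  have h2 : w₂ = 0 := hf B (by
    rw [hw₂, map_zero]
    simp only [htz, sub_zero]
    simp only [trans, zero_add, sub_self])
  rw [h1, map_zero] at hwe₁
  rw [h2, map_zero] at hwe₂
  simp only [Pi.zero_apply, TensorProduct.zero_tmul, Finset.sum_const_zero, add_zero] at hwe₁
  simp only [Pi.zero_apply, TensorProduct.zero_tmul, Finset.sum_const_zero, zero_add] at hwe₂
  rw [← hwe₁, ← hwe₂, add_zero] at hwe
  rw [(uEquiv M B).injective (hwe.trans (map_zero _).symm), map_zero, sub_sub] at hw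
  exact sub_eq_zero.1 hw.symm

include p in
/-- Extensions of linearly adequate functors by underlined modules split. -/
theorem LinPres.exists_section {M : ModuleCat.{u + 1} A} (f : (Adeq.underline A).obj M ⟶ G) (g : G ⟶ L)
    (hf : ∀ B, Function.Injective (app f B)) (hg : ∀ B, Function.Surjective (app g B))
    (hex : ∀ B, Function.Exact (app f B) (app g B)) : ∃ s : L ⟶ G, s ≫ g = 𝟙 L := by
  let Q := repAlg p.a
  let P := polyAlg Q
  obtain ⟨η, hη⟩ := hg Q p.gen
  obtain ⟨d, hd⟩ := (hex P (res G (scale p.a) η - polyX Q • res G (polyC Q) η)).1 (by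
    rw [map_sub, map_smul, app_res, app_res, hη, show res L (scale p.a) p.gen = _ from p.gen_homog, sub_self])
  have hd' : res G (scale p.a) η = polyX Q • res G (polyC Q) η + app f P d := by rw [hd]; abel
  let d₁ : Val ((Adeq.underline A).obj M) Q := (uEquiv M Q).symm ((coeffOne Q).rTensor M (uEquiv M P d))
  -- the cocycle identity
  let S : P ⟶ polyAlg P := polyEv (scale p.a ≫ polyC P) (polyX P)
  let E : P ⟶ polyAlg P := polyEv (polyC Q ≫ polyC P) ((polyC P).hom (polyX Q) * polyX P)
  have hSC : polyC Q ≫ S = scale p.a ≫ polyC P := polyC_polyEv _ _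
  have hSE : scale p.a ≫ S = scale p.a ≫ E := by
    refine rep_hom_ext p.a fun i => ?_
    simp only [Q, P, S, E, CommAlgCat.hom_comp, AlgHom.comp_apply, scale, classify_gen, map_mul, polyEv_X]
    rw [← AlgHom.comp_apply (polyEv _ _).hom, ← CommAlgCat.hom_comp, polyC_polyEv,
      ← AlgHom.comp_apply (polyEv (polyC Q ≫ polyC P) _).hom, ← CommAlgCat.hom_comp, polyC_polyEv]
    simp only [CommAlgCat.hom_comp, AlgHom.comp_apply, classify_gen, scale, map_mul]
    ring
  have h1 := congrArg (res G S) hd'
  have h2 := congrArg (res G E) hd'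
  rw [map_add, res_smul, ← res_comp, ← res_comp, hSC, res_comp (scale p.a) (polyC P), hd', map_add, res_smul,
    ← res_comp, smul_add, smul_smul, ← app_res, ← app_res, polyEv_X, hSE] at h1
  rw [map_add, res_smul, ← res_comp, ← res_comp, ← app_res, polyEv_X, polyC_polyEv] at h2
  rw [h1, mul_comm, add_assoc] at h2
  have h3 := add_left_cancel h2
  rw [← map_smul, ← map_add] at h3
  have h4 := congrArg (fun w => (coeffOne P).rTensor M (uEquiv M (polyAlg P) w)) (hf _ h3)
  simp only [map_add, map_smul, uEquiv_res] at h4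
  have hB : ∀ z : P ⊗[A] M, (coeffOne P).rTensor M (S.hom.toLinearMap.rTensor M z) =
      (scale p.a).hom.toLinearMap.rTensor M ((coeffOne Q).rTensor M z) := by
    intro z
    induction z using TensorProduct.induction_on with
    | zero => simp
    | tmul x y =>
      simp only [LinearMap.rTensor_tmul]
      refine congrArg (fun e => e ⊗ₜ[A] y) ?_
      change Polynomial Q at x
      show Polynomial.coeff (Polynomial.eval₂ ((Polynomial.C : P →+* Polynomial P).comp (scale p.a).hom.toRingHom)
        (Polynomial.X : Polynomial P) x) 1 = (scale p.a).hom (x.coeff 1)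
      induction x using Polynomial.induction_on' with
      | add a b ha hb =>
        rw [Polynomial.eval₂_add, Polynomial.coeff_add, ha, hb, Polynomial.coeff_add]
        exact (map_add (scale p.a).hom _ _).symm
      | monomial k r =>
        rw [Polynomial.eval₂_monomial, RingHom.comp_apply, Polynomial.C_mul_X_pow_eq_monomial,
          Polynomial.coeff_monomial, Polynomial.coeff_monomial]
        split_ifs with h
        · rfl
        · exact (map_zero (scale p.a).hom).symm
    | add x y hx hy => simp only [map_add, hx, hy]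
  have hC : ∀ z : P ⊗[A] M, (coeffOne P).rTensor M (E.hom.toLinearMap.rTensor M z) =
      polyX Q • (polyC Q).hom.toLinearMap.rTensor M ((coeffOne Q).rTensor M z) := by
    intro z
    induction z using TensorProduct.induction_on with
    | zero => simp
    | tmul x y =>
      simp only [LinearMap.rTensor_tmul, TensorProduct.smul_tmul', smul_eq_mul]
      refine congrArg (fun e => e ⊗ₜ[A] y) ?_
      change Polynomial Q at x
      show Polynomial.coeff (Polynomial.eval₂ ((Polynomial.C : P →+* Polynomial P).comp (polyC Q).hom.toRingHom)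
        (Polynomial.C (polyX Q) * Polynomial.X : Polynomial P) x) 1 = polyX Q * (polyC Q).hom (x.coeff 1)
      induction x using Polynomial.induction_on' with
      | add a b ha hb =>
        rw [Polynomial.eval₂_add, Polynomial.coeff_add, ha, hb, Polynomial.coeff_add, ← mul_add]
        exact congrArg _ (map_add (polyC Q).hom _ _).symm
      | monomial k r =>
        rw [Polynomial.eval₂_monomial, RingHom.comp_apply, mul_pow, ← mul_assoc, ← Polynomial.C_pow, ← map_mul,
          Polynomial.C_mul_X_pow_eq_monomial, Polynomial.coeff_monomial, Polynomial.coeff_monomial]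
        split_ifs with h
        · subst h
          rw [pow_one, mul_comm]
          rfl
        · exact (by rw [map_zero, mul_zero] : (0 : P) = polyX Q * (polyC Q).hom 0)
    | add x y hx hy => simp only [map_add, smul_add, hx, hy]
  have hA : ∀ z : P ⊗[A] M, (coeffOne P).rTensor M (polyX P • (polyC P).hom.toLinearMap.rTensor M z) = z := by
    intro z
    induction z using TensorProduct.induction_on with
    | zero => simp
    | tmul x y =>
      rw [LinearMap.rTensor_tmul, TensorProduct.smul_tmul', LinearMap.rTensor_tmul, smul_eq_mul]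
      exact congrArg (fun e => e ⊗ₜ[A] y) (coeffOne_X_mul x)
    | add x y hx hy => simp only [map_add, smul_add, hx, hy]
  rw [hA, hB, hC] at h4
  -- the homogeneous lift
  have hη' : IsHomog p.a (η + app f Q d₁) := by
    show res G (scale p.a) (η + app f Q d₁) = polyX Q • res G (polyC Q) (η + app f Q d₁)
    have h5 : d + res ((Adeq.underline A).obj M) (scale p.a) d₁ = polyX Q • res ((Adeq.underline A).obj M) (polyC Q) d₁ := by
      refine (uEquiv M P).injective ?_
      rw [map_add, map_smul, uEquiv_res, uEquiv_res, LinearEquiv.apply_symm_apply]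
      exact h4
    rw [map_add, map_add, smul_add, hd', add_assoc, ← app_res, ← app_res]
    refine congrArg _ ((map_add (app f P) _ _).symm.trans ?_)
    exact (congrArg (app f P) h5).trans ((app f P).map_smul _ _)
  have hgη : app g (repAlg p.a) (η + app f Q d₁) = p.gen := by
    rw [map_add, hη, (hex Q _).2 ⟨d₁, rfl⟩, add_zero]
  have hadd := trans_add p.a hη' f hf fun B y z hy hz hyz => (hex B _).1 (by
    simp only [trans]
    rw [map_sub, map_sub, app_res, app_res, app_res, hgη, p.res_classify_gen, p.res_classify_gen, p.res_classify_gen]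
    refine p.inj B ?_
    simp only [map_sub, map_zero, p.co_elt]
    abel)
  exact ⟨p.desc hη' hadd, p.hom_ext' (by rw [app_comp, p.app_desc_gen, hgη, app_id])⟩

end Groth.Agent.AdeqLib
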