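import Groth.Agent.AdeqLib.Basic

/-!
# Linearly adequate functors as representable functors
-/

set_option autoImplicit false
set_option backward.isDefEq.respectTransparency false
universe u

namespace Groth.Agent.AdeqLib

open CategoryTheory Limits Opposite TensorProduct

variable {A : Type u} [CommRing A] {m n : ℕ} (a : Fin m → Fin n → A)

/-- Solutions of a linear system in an algebra. -/
def IsSol (B : Adeq.Alg A) (y : Fin n → B) : Prop := ∀ j, ∑ i, a j i • y i = 0

theorem IsSol.map {B B' : Adeq.Alg A} (f : B ⟶ B') {y : Fin n → B} (hy : IsSol a B y) :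
    IsSol a B' fun i => f.hom (y i) := fun j => by
  have h := congrArg f.hom (hy j)
  simpa [map_sum] using h

theorem IsSol.smul {B : Adeq.Alg A} (b : B) {y : Fin n → B} (hy : IsSol a B y) :
    IsSol a B fun i => b * y i := fun j => by
  simp only [← mul_smul_comm, ← Finset.mul_sum, hy j, mul_zero]

/-- The relations. -/
noncomputable def relIdeal : Ideal (MvPolynomial (Fin n) A) :=
  Ideal.span (Set.range fun j => ∑ i, a j i • MvPolynomial.X i)

/-- The representing algebra. -/
noncomputable def repAlg : Adeq.Alg A := Adeq.algOf A (MvPolynomial (Fin n) A ⧸ relIdeal a)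

/-- The quotient map. -/
noncomputable def repMk : MvPolynomial (Fin n) A →ₐ[A] repAlg a := Ideal.Quotient.mkₐ A (relIdeal a)

theorem repMk_surjective : Function.Surjective (repMk a) := Ideal.Quotient.mkₐ_surjective A _

/-- The generic solution. -/
noncomputable def gen (i : Fin n) : repAlg a := repMk a (MvPolynomial.X i)

theorem isSol_gen : IsSol a (repAlg a) (gen a) := fun j => by
  simp only [gen, ← map_smul, ← map_sum]
  exact (Ideal.Quotient.mkₐ_eq_mk A (relIdeal a)) ▸ Ideal.Quotient.eq_zero_iff_mem.2 (Ideal.subset_span ⟨j, rfl⟩)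

/-- The map classifying a solution. -/
noncomputable def classify {B : Adeq.Alg A} (y : Fin n → B) (hy : IsSol a B y) : repAlg a ⟶ B :=
  CommAlgCat.ofHom (Ideal.Quotient.liftₐ (relIdeal a) (MvPolynomial.aeval y) fun x hx => by
    suffices h : relIdeal a ≤ RingHom.ker (MvPolynomial.aeval y).toRingHom from h hx
    rw [relIdeal, Ideal.span_le]
    rintro _ ⟨j, rfl⟩
    rw [SetLike.mem_coe, RingHom.mem_ker]
    show MvPolynomial.aeval y (∑ i, a j i • MvPolynomial.X i) = 0
    simpa [map_sum] using hy j)

theorem classify_mk {B : Adeq.Alg A} (y : Fin n → B) (hy : IsSol a B y) (f : MvPolynomial (Fin n) A) :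
    (classify a y hy).hom (repMk a f) = MvPolynomial.aeval y f := rfl

theorem classify_gen {B : Adeq.Alg A} (y : Fin n → B) (hy : IsSol a B y) (i : Fin n) :
    (classify a y hy).hom (gen a i) = y i := by rw [gen, classify_mk, MvPolynomial.aeval_X]

theorem rep_hom_ext {B : Adeq.Alg A} {f g : repAlg a ⟶ B} (h : ∀ i, f.hom (gen a i) = g.hom (gen a i)) : f = g :=
  CommAlgCat.hom_ext (Ideal.Quotient.algHom_ext A (MvPolynomial.algHom_ext h))

theorem classify_comp {B B' : Adeq.Alg A} (f : B ⟶ B') (y : Fin n → B) (hy : IsSol a B y) :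
    classify a y hy ≫ f = classify a (fun i => f.hom (y i)) (hy.map a f) :=
  rep_hom_ext a fun i => by simp [classify_gen]

theorem classify_congr {B : Adeq.Alg A} {y y' : Fin n → B} (h : y = y') (hy : IsSol a B y) :
    classify a y hy = classify a y' (h ▸ hy) := by subst h; rfl

theorem classify_gen_self : classify a (gen a) (isSol_gen a) = 𝟙 _ :=
  rep_hom_ext a fun i => by simp [classify_gen]

variable {B : Adeq.Alg A}

/-- The polynomial algebra. -/
noncomputable def polyAlg (B : Adeq.Alg A) : Adeq.Alg A := Adeq.algOf A (Polynomial B)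

/-- Constants. -/
noncomputable def polyC (B : Adeq.Alg A) : B ⟶ polyAlg B :=
  CommAlgCat.ofHom (IsScalarTower.toAlgHom A B (Polynomial B))

/-- The variable. -/
noncomputable def polyX (B : Adeq.Alg A) : polyAlg B := (Polynomial.X : Polynomial B)

/-- Evaluation along a map. -/
noncomputable def polyEv {B B' : Adeq.Alg A} (f : B ⟶ B') (b : B') : polyAlg B ⟶ B' :=
  CommAlgCat.ofHom (R := A)
    { Polynomial.eval₂RingHom f.hom.toRingHom b with
      commutes' := fun r => by
        show Polynomial.eval₂ f.hom.toRingHom b (Polynomial.C (algebraMap A B r)) = algebraMap A B' r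
        rw [Polynomial.eval₂_C]
        exact f.hom.commutes r }

theorem polyC_polyEv {B B' : Adeq.Alg A} (f : B ⟶ B') (b : B') : polyC B ≫ polyEv f b = f :=
  CommAlgCat.hom_ext (AlgHom.ext fun x => Polynomial.eval₂_C f.hom.toRingHom b)

theorem polyEv_X {B B' : Adeq.Alg A} (f : B ⟶ B') (b : B') : (polyEv f b).hom (polyX B) = b :=
  Polynomial.eval₂_X f.hom.toRingHom b

/-- Coefficient of the first power. -/
noncomputable def coeffOne (B : Adeq.Alg A) : polyAlg B →ₗ[A] B :=
  ((Polynomial.lcoeff B 1).restrictScalars A)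

theorem coeffOne_X_mul (x : B) : coeffOne B (polyX B * (polyC B).hom x) = x := by
  show Polynomial.coeff (Polynomial.X * Polynomial.C x : Polynomial B) 1 = x
  simp

theorem isSol_scale : IsSol a (polyAlg (repAlg a)) fun i => polyX (repAlg a) * (polyC (repAlg a)).hom (gen a i) :=
  ((isSol_gen a).map a (polyC (repAlg a))).smul a _

/-- The scaling map. -/
noncomputable def scale : repAlg a ⟶ polyAlg (repAlg a) := classify a _ (isSol_scale a)

theorem scale_polyEv {B : Adeq.Alg A} (y : Fin n → B) (hy : IsSol a B y) (b : B) :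
    scale a ≫ polyEv (classify a y hy) b = classify a (fun i => b * y i) (hy.smul a b) := by
  refine rep_hom_ext a fun i => ?_
  simp only [CommAlgCat.hom_comp, AlgHom.comp_apply, scale, classify_gen, map_mul, polyEv_X]
  rw [← AlgHom.comp_apply, ← CommAlgCat.hom_comp, polyC_polyEv, classify_gen]

theorem coeff_scale (f : MvPolynomial (Fin n) A) :
    (∃ r : A, Polynomial.coeff ((scale a).hom (repMk a f) : Polynomial (repAlg a)) 0 = algebraMap A (repAlg a) r) ∧
      coeffOne (repAlg a) ((scale a).hom (repMk a f)) ∈ Submodule.span A (Set.range (gen a)) := by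
  induction f using MvPolynomial.induction_on with
  | C r =>
    have h : ((scale a).hom (repMk a (MvPolynomial.C r)) : Polynomial (repAlg a)) =
        Polynomial.C (algebraMap A (repAlg a) r) := by
      rw [show repMk a (MvPolynomial.C r) = algebraMap A (repAlg a) r from (repMk a).commutes r, AlgHom.commutes]
      rfl
    refine ⟨⟨r, by rw [h, Polynomial.coeff_C_zero]⟩, ?_⟩
    show Polynomial.coeff ((scale a).hom (repMk a (MvPolynomial.C r)) : Polynomial (repAlg a)) 1 ∈ _
    rw [h, Polynomial.coeff_C_ne_zero one_ne_zero]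
    exact zero_mem _
  | add f g hf hg =>
    obtain ⟨⟨r, hr⟩, hf⟩ := hf
    obtain ⟨⟨s, hs⟩, hg⟩ := hg
    rw [map_add, map_add]
    refine ⟨⟨r + s, ?_⟩, by rw [map_add]; exact add_mem hf hg⟩
    rw [map_add (algebraMap A _), ← hr, ← hs]
    exact Polynomial.coeff_add _ _ _
  | mul_X f i hf =>
    obtain ⟨⟨r, hr⟩, -⟩ := hf
    have h : (scale a).hom (repMk a (f * MvPolynomial.X i)) =
        (scale a).hom (repMk a f) * (polyX _ * (polyC _).hom (gen a i)) := by
      rw [map_mul, map_mul, ← gen, scale, classify_gen]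
    refine ⟨⟨0, ?_⟩, ?_⟩
    · rw [h, map_zero]
      generalize hg : (scale a).hom (repMk a f) = g
      change Polynomial (repAlg a) at g
      show Polynomial.coeff (g * ((Polynomial.X : Polynomial (repAlg a)) * Polynomial.C (gen a i))) 0 = 0
      rw [Polynomial.mul_coeff_zero, Polynomial.mul_coeff_zero, Polynomial.coeff_X_zero, zero_mul, mul_zero]
    · rw [h]
      revert hr
      generalize (scale a).hom (repMk a f) = g
      change Polynomial (repAlg a) at g
      intro hr
      show Polynomial.coeff (g * ((Polynomial.X : Polynomial (repAlg a)) * Polynomial.C (gen a i))) 1 ∈ _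
      rw [← mul_assoc, Polynomial.coeff_mul_C, Polynomial.coeff_mul_X, hr, ← Algebra.smul_def]
      exact Submodule.smul_mem _ _ (Submodule.subset_span ⟨i, rfl⟩)

/-- Homogeneous natural maps on solutions with values in `B ⊗ M` are linear. -/
theorem exists_eq_sum (M : ModuleCat.{u + 1} A) (h : ∀ (B : Adeq.Alg A) (y : Fin n → B), IsSol a B y → B ⊗[A] M)
    (hnat : ∀ {B B' : Adeq.Alg A} (f : B ⟶ B') (y : Fin n → B) (hy : IsSol a B y),
      h B' (fun i => f.hom (y i)) (hy.map a f) = f.hom.toLinearMap.rTensor M (h B y hy))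
    (hsmul : ∀ (B : Adeq.Alg A) (b : B) (y : Fin n → B) (hy : IsSol a B y),
      h B (fun i => b * y i) (hy.smul a b) = b • h B y hy) :
    ∃ μ : Fin n → M, ∀ (B : Adeq.Alg A) (y : Fin n → B) (hy : IsSol a B y), h B y hy = ∑ i, y i ⊗ₜ[A] μ i := by
  classical
  let Q := repAlg a
  let ψ : Q ⊗[A] M := h Q (gen a) (isSol_gen a)
  have h1 : (scale a).hom.toLinearMap.rTensor M ψ = polyX Q • (polyC Q).hom.toLinearMap.rTensor M ψ := by
    rw [← hnat, ← hnat, ← hsmul]
    congr 1
    funext i
    rw [scale, classify_gen]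
  have h2 : ψ = ((coeffOne Q).comp (scale a).hom.toLinearMap).rTensor M ψ := by
    rw [LinearMap.rTensor_comp_apply, h1]
    have h3 : ∀ z : Q ⊗[A] M, (coeffOne Q).rTensor M (polyX Q • (polyC Q).hom.toLinearMap.rTensor M z) = z := by
      intro z
      induction z using TensorProduct.induction_on with
      | zero => simp
      | tmul x y =>
        rw [LinearMap.rTensor_tmul, TensorProduct.smul_tmul', LinearMap.rTensor_tmul, smul_eq_mul]
        exact congrArg (fun e => e ⊗ₜ[A] y) (coeffOne_X_mul x)
      | add x y hx hy => simp only [map_add, smul_add, hx, hy]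
    rw [h3]
  have h4 : ∀ z : Q ⊗[A] M, ∃ μ : Fin n → M,
      ((coeffOne Q).comp (scale a).hom.toLinearMap).rTensor M z = ∑ i, gen a i ⊗ₜ[A] μ i := by
    intro z
    induction z using TensorProduct.induction_on with
    | zero => exact ⟨0, by simp⟩
    | tmul x y =>
      obtain ⟨f, rfl⟩ := repMk_surjective a x
      obtain ⟨r, hr⟩ := (Submodule.mem_span_range_iff_exists_fun A).1 (coeff_scale a f).2
      refine ⟨fun i => r i • y, ?_⟩
      rw [LinearMap.rTensor_tmul, LinearMap.comp_apply]
      show coeffOne Q ((scale a).hom (repMk a f)) ⊗ₜ[A] y = _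
      rw [← hr, TensorProduct.sum_tmul]
      exact Finset.sum_congr rfl fun i _ => TensorProduct.smul_tmul _ _ _
    | add x y hx hy =>
      obtain ⟨μ, hμ⟩ := hx
      obtain ⟨ν, hν⟩ := hy
      exact ⟨μ + ν, by simp only [map_add, hμ, hν, Pi.add_apply, TensorProduct.tmul_add, Finset.sum_add_distrib]⟩
  obtain ⟨μ, hμ⟩ := h4 ψ
  rw [← h2] at hμ
  refine ⟨μ, fun B y hy => ?_⟩
  have h5 := hnat (classify a y hy) (gen a) (isSol_gen a)
  simp only [classify_gen] at h5
  rw [h5]
  refine (congrArg ((classify a y hy).hom.toLinearMap.rTensor M) hμ).trans ?_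
  simp only [map_sum, LinearMap.rTensor_tmul, AlgHom.toLinearMap_apply, classify_gen]

section Functor

variable {G : Adeq.MVF A} (η : Val G (repAlg a))

/-- The natural map on solutions defined by a generic value. -/
noncomputable def trans (B : Adeq.Alg A) (y : Fin n → B) (hy : IsSol a B y) : Val G B := res G (classify a y hy) η

theorem trans_map {B B' : Adeq.Alg A} (f : B ⟶ B') (y : Fin n → B) (hy : IsSol a B y) :
    trans a η B' (fun i => f.hom (y i)) (hy.map a f) = res G f (trans a η B y hy) := by
  rw [trans, trans, ← res_comp, classify_comp]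

/-- A homogeneous generic value. -/
def IsHomog : Prop := res G (scale a) η = polyX (repAlg a) • res G (polyC (repAlg a)) η

variable {η}

theorem trans_smul (hη : IsHomog a η) (B : Adeq.Alg A) (b : B) (y : Fin n → B) (hy : IsSol a B y) :
    trans a η B (fun i => b * y i) (hy.smul a b) = b • trans a η B y hy := by
  rw [trans, trans, ← scale_polyEv a y hy b, res_comp, show res G (scale a) η = _ from hη, res_smul, polyEv_X,
    ← res_comp, polyC_polyEv]

end Functor

end Groth.Agent.AdeqLib
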