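import Groth.Agent.AdeqLib.Lin

/-!
# Standard linearly adequate functors and generation of adequate functors
-/

set_option autoImplicit false
set_option backward.isDefEq.respectTransparency false
universe u

namespace Groth.Agent.AdeqLib

open CategoryTheory Limits Opposite TensorProduct

variable {A : Type u} [CommRing A] {F : Adeq.MVF A}

section Kernel

variable {P P' : ModuleCat.{u + 1} A} (φ : P ⟶ P') {m n : ℕ} (bP : Module.Basis (Fin n) A P)
  (bQ : Module.Basis (Fin m) A P')

/-- Coordinates on an underlined free module. -/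
noncomputable def ucoord (B : Adeq.Alg A) : Val ((Adeq.underline A).obj P) B ≃ₗ[B] (Fin n → B) :=
  (uEquiv P B).trans (bP.baseChange B).equivFun

theorem ucoord_map (B : Adeq.Alg A) (x : Val ((Adeq.underline A).obj P) B) (j : Fin m) :
    ucoord bQ B (app ((Adeq.underline A).map φ) B x) j = ∑ i, bQ.repr (φ.hom (bP i)) j • ucoord bP B x i := by
  show (bQ.baseChange B).repr (uEquiv P' B _) j = ∑ i, _ • (bP.baseChange B).repr (uEquiv P B x) i
  rw [uEquiv_map]
  generalize uEquiv P B x = z
  induction z using TensorProduct.induction_on with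
  | zero => simp
  | tmul b y =>
    simp only [LinearMap.baseChange_tmul, Module.Basis.baseChange_repr_tmul, smul_smul, ← Finset.sum_smul]
    congr 1
    conv_lhs => rw [← bP.sum_repr y, map_sum, map_sum, Finset.sum_apply']
    exact Finset.sum_congr rfl fun i _ => by
      rw [map_smul, map_smul, Finsupp.smul_apply, smul_eq_mul, mul_comm]
  | add x y hx hy => simp only [map_add, Finsupp.add_apply, smul_add, Finset.sum_add_distrib, hx, hy]

theorem ucoord_res {B B' : Adeq.Alg A} (f : B ⟶ B') (x : Val ((Adeq.underline A).obj P) B) (i : Fin n) :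
    ucoord bP B' (res ((Adeq.underline A).obj P) f x) i = f.hom (ucoord bP B x i) := by
  show (bP.baseChange B').repr (uEquiv P B' _) i = f.hom ((bP.baseChange B).repr (uEquiv P B x) i)
  rw [uEquiv_res]
  generalize uEquiv P B x = z
  induction z using TensorProduct.induction_on with
  | zero => simp
  | tmul b y => simp [Module.Basis.baseChange_repr_tmul]
  | add x y hx hy => simp only [map_add, Finsupp.add_apply, hx, hy]

theorem uEquiv_eq_sum (B : Adeq.Alg A) (x : Val ((Adeq.underline A).obj P) B) :
    uEquiv P B x = ∑ i, ucoord bP B x i ⊗ₜ[A] bP i := by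
  conv_lhs => rw [← (bP.baseChange B).sum_repr (uEquiv P B x)]
  refine Finset.sum_congr rfl fun i _ => ?_
  rw [Module.Basis.baseChange_apply, TensorProduct.smul_tmul', smul_eq_mul, mul_one]
  rfl

/-- Coordinates on the kernel between underlined free modules. -/
noncomputable def kernelLinPres : LinPres (kernel ((Adeq.underline A).map φ)) where
  m := m
  n := n
  a j i := bQ.repr (φ.hom (bP i)) j
  co B := (ucoord bP B).toLinearMap ∘ₗ app (kernel.ι _) B
  inj B := (ucoord bP B).injective.comp (kernel_ι_injective _ B)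
  mem B y := by
    constructor
    · intro hy
      obtain ⟨x, hx⟩ := (kernel_ι_mem ((Adeq.underline A).map φ) B ((ucoord bP B).symm y)).1 (by
        refine (ucoord bQ B).injective (funext fun j => ?_)
        rw [ucoord_map φ bP bQ, map_zero, Pi.zero_apply, LinearEquiv.apply_symm_apply]
        exact hy j)
      exact ⟨x, by rw [LinearMap.comp_apply, hx]; exact (ucoord bP B).apply_symm_apply y⟩
    · rintro ⟨x, rfl⟩ j
      refine (ucoord_map φ bP bQ B (app (kernel.ι _) B x) j).symm.trans ?_
      rw [(kernel_ι_mem _ B _).2 ⟨x, rfl⟩, map_zero]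
      rfl
  nat f x i := by
    simp only [LinearMap.comp_apply, LinearEquiv.coe_coe, app_res, ucoord_res]

end Kernel

/-- Transport coordinates along an isomorphism. -/
noncomputable def LinPres.ofIso {L L' : Adeq.MVF A} (e : L ≅ L') (p : LinPres L') : LinPres L where
  m := p.m
  n := p.n
  a := p.a
  co B := p.co B ∘ₗ app e.hom B
  inj B := (p.inj B).comp (mono_iff.1 inferInstance B)
  mem B y := by
    rw [p.mem]
    constructor
    · rintro ⟨x, rfl⟩
      exact ⟨app e.inv B x, by rw [LinearMap.comp_apply, ← app_comp e.inv, e.inv_hom_id, app_id]⟩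
    · rintro ⟨x, rfl⟩
      exact ⟨app e.hom B x, rfl⟩
  nat f x i := by simp only [LinearMap.comp_apply, app_res, p.nat]

theorem exists_linPres {L : Adeq.MVF A} (hL : Adeq.linAdequate A L) : Nonempty (LinPres L) := by
  obtain ⟨M, N, φ, _, _, _, _, ⟨e⟩⟩ := hL
  let bM := Module.Free.chooseBasis A M
  let bN := Module.Free.chooseBasis A N
  exact ⟨LinPres.ofIso e (kernelLinPres φ (bM.reindex (Fintype.equivFin _)) (bN.reindex (Fintype.equivFin _)))⟩

/-- Finite free modules one universe up. -/
noncomputable abbrev freeMod (A : Type u) [CommRing A] (n : ℕ) : ModuleCat.{u + 1} A :=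
  ModuleCat.of A (ULift.{u + 1} (Fin n → A))

/-- The basis of a finite free module. -/
noncomputable def freeBasis (n : ℕ) : Module.Basis (Fin n) A (freeMod A n) :=
  (Pi.basisFun A (Fin n)).map ULift.moduleEquiv.symm

variable {m n : ℕ} (a : Fin m → Fin n → A)

/-- The map of free modules of a system. -/
noncomputable def matHom : freeMod A n ⟶ freeMod A m :=
  ModuleCat.ofHom ((freeBasis n).constr A fun i => ∑ j, a j i • freeBasis m j)

/-- The standard linearly adequate functor of a system. -/
noncomputable def stdL : Adeq.MVF A := kernel ((Adeq.underline A).map (matHom a))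

theorem linAdequate_stdL : Adeq.linAdequate A (stdL a) :=
  ⟨freeMod A n, freeMod A m, matHom a, Module.Finite.of_basis (freeBasis n), Module.Free.of_basis (freeBasis n),
    Module.Finite.of_basis (freeBasis m), Module.Free.of_basis (freeBasis m), ⟨Iso.refl _⟩⟩

theorem adequate_of_linAdequate {L : Adeq.MVF A} (hL : Adeq.linAdequate A L) : Adeq.adequate A L := by
  obtain ⟨M, N, φ, -, -, -, -, h⟩ := hL
  exact ⟨M, N, φ, h⟩

theorem repr_matHom (i : Fin n) (j : Fin m) : (freeBasis m).repr ((matHom a).hom (freeBasis n i)) j = a j i := by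
  rw [matHom, ModuleCat.hom_ofHom, Module.Basis.constr_basis, map_sum, Finsupp.finsetSum_apply]
  simp [Finsupp.single_apply]

/-- Coordinates on the standard functor. -/
noncomputable def stdPres : LinPres (stdL a) where
  m := m
  n := n
  a := a
  co := (kernelLinPres (matHom a) (freeBasis n) (freeBasis m)).co
  inj := (kernelLinPres (matHom a) (freeBasis n) (freeBasis m)).inj
  mem B y := by
    refine Iff.trans ?_ ((kernelLinPres (matHom a) (freeBasis n) (freeBasis m)).mem B y)
    show (∀ j, _) ↔ ∀ j : Fin m, ∑ i, (freeBasis m).repr ((matHom a).hom (freeBasis n i)) j • y i = 0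
    exact forall_congr' fun j => Eq.congr_left (Finset.sum_congr rfl fun i _ =>
      (congrArg (· • y i) (repr_matHom a i j)).symm)
  nat := (kernelLinPres (matHom a) (freeBasis n) (freeBasis m)).nat

variable {a}

/-- A morphism from a standard functor given by degree-one data. -/
theorem Pres.exists_hom (q : Pres F) (μ : Fin n → q.M)
    (hμ : ∀ (B : Adeq.Alg A) (y : Fin n → B), IsSol a B y → ∑ i, y i ⊗ₜ[A] q.φ.hom (μ i) = 0) :
    ∃ lam : stdL a ⟶ F, ∀ (B : Adeq.Alg A) (x : Val (stdL a) B),
      uEquiv q.M B (app q.ι B (app lam B x)) = ∑ i, (stdPres a).co B x i ⊗ₜ[A] μ i := by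
  have hex : ∀ (B : Adeq.Alg A) (x : Val (stdL a) B),
      ∃ z, uEquiv q.M B (app q.ι B z) = ∑ i, (stdPres a).co B x i ⊗ₜ[A] μ i := fun B x => by
    obtain ⟨z, hz⟩ := (q.mem B ((uEquiv q.M B).symm (∑ i, (stdPres a).co B x i ⊗ₜ[A] μ i))).1 (by
      refine (uEquiv q.N B).injective ?_
      rw [uEquiv_map, LinearEquiv.apply_symm_apply, map_zero, map_sum]
      exact (Finset.sum_congr rfl fun i _ => LinearMap.baseChange_tmul _ _ _).trans
        (hμ B _ ((stdPres a).isSol x)))
    exact ⟨z, by rw [hz, LinearEquiv.apply_symm_apply]⟩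
  choose z hz using hex
  refine ⟨homMk (fun B =>
    { toFun := z B
      map_add' := fun x y => q.inj B ((uEquiv q.M B).injective (by
        rw [map_add, map_add, hz, hz, hz, map_add]
        simp only [Pi.add_apply, TensorProduct.add_tmul, Finset.sum_add_distrib]))
      map_smul' := fun b x => q.inj B ((uEquiv q.M B).injective (by
        rw [RingHom.id_apply, map_smul, map_smul, hz, hz, map_smul, Finset.smul_sum]
        simp only [Pi.smul_apply, TensorProduct.smul_tmul']))})
    (fun {B B'} f x => q.inj B' ((uEquiv q.M B').injective (by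
      show uEquiv q.M B' (app q.ι B' (z B' (res (stdL a) f x))) = uEquiv q.M B' (app q.ι B' (res F f (z B x)))
      rw [app_res, uEquiv_res, hz, hz, map_sum]
      refine Finset.sum_congr rfl fun i _ => ?_
      rw [(stdPres a).nat, LinearMap.rTensor_tmul]
      rfl))), hz⟩

/-- Every element killed by a linear map comes from a finite linear system. -/
theorem exists_system {M N : Type (u + 1)} [AddCommGroup M] [Module A M] [AddCommGroup N] [Module A N]
    (f : M →ₗ[A] N) (B : Adeq.Alg A) (z : B ⊗[A] M) (hz0 : f.baseChange B z = 0) :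
    ∃ (m n : ℕ) (a : Fin m → Fin n → A) (μ : Fin n → M) (y : Fin n → B), IsSol a B y ∧
      ∑ i, y i ⊗ₜ[A] μ i = z ∧
      ∀ (B' : Adeq.Alg A) (y : Fin n → B'), IsSol a B' y → ∑ i, y i ⊗ₜ[A] f (μ i) = 0 := by
  classical
  obtain ⟨n, b, μ, rfl⟩ : ∃ (n : ℕ) (b : Fin n → B) (μ : Fin n → M), ∑ i, b i ⊗ₜ[A] μ i = z := by
    obtain ⟨S, rfl⟩ := TensorProduct.exists_finset z
    refine ⟨S.card, fun i => (S.equivFin.symm i).1.1, fun i => (S.equivFin.symm i).1.2, ?_⟩
    conv_rhs => rw [← Finset.sum_coe_sort]
    exact Equiv.sum_comp S.equivFin.symm (fun i : S => i.1.1 ⊗ₜ[A] i.1.2)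
  let lc : (N →₀ A) →ₗ[A] N := Finsupp.linearCombination A id
  have hlc : Function.Surjective lc := fun w => ⟨Finsupp.single w 1, by simp [lc]⟩
  have hexact : Function.Exact ((LinearMap.ker lc).subtype.lTensor B) (lc.lTensor B) :=
    lTensor_exact (M := LinearMap.ker lc) (N := N →₀ A) (P := N) B (LinearMap.exact_subtype_ker_map lc) hlc
  have h0 : lc.lTensor B (∑ i, b i ⊗ₜ[A] Finsupp.single (f (μ i)) (1 : A)) = 0 := by
    rw [map_sum] at hz0
    rw [map_sum, ← hz0]
    refine Finset.sum_congr rfl fun i _ => ?_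
    rw [LinearMap.lTensor_tmul, LinearMap.baseChange_tmul]
    simp [lc]
  obtain ⟨K, hK⟩ := (hexact _).1 h0
  obtain ⟨L, c, k, rfl⟩ : ∃ (L : ℕ) (c : Fin L → B) (k : Fin L → LinearMap.ker lc), K = ∑ l, c l ⊗ₜ[A] k l := by
    obtain ⟨S, rfl⟩ := TensorProduct.exists_finset K
    refine ⟨S.card, fun i => (S.equivFin.symm i).1.1, fun i => (S.equivFin.symm i).1.2, ?_⟩
    conv_lhs => rw [← Finset.sum_coe_sort]
    exact (Equiv.sum_comp S.equivFin.symm (fun i : S => i.1.1 ⊗ₜ[A] i.1.2)).symm
  rw [map_sum] at hK
  simp only [LinearMap.lTensor_tmul, Submodule.coe_subtype] at hK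
  let T : Finset N := (Finset.univ.image fun i => f (μ i)) ∪ Finset.univ.biUnion fun l => (k l).1.support
  let t : Fin T.card → N := fun j => (T.equivFin.symm j).1
  let a : Fin T.card → Fin (n + L) → A := fun j =>
    Fin.addCases (fun i => Finsupp.single (f (μ i)) (1 : A) (t j)) fun l => -((k l).1 (t j))
  let μ' : Fin (n + L) → M := Fin.addCases μ 0
  let y' : Fin (n + L) → B := Fin.addCases b c
  have hy' : IsSol a B y' := fun j => by
    have h1 := congrArg (fun w => TensorProduct.finsuppScalarRight A A B N w (t j)) hK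
    simp only [map_sum, Finsupp.finsetSum_apply, TensorProduct.finsuppScalarRight_apply_tmul_apply] at h1
    rw [Fin.sum_univ_add]
    simp only [a, y', Fin.addCases_left, Fin.addCases_right, neg_smul, Finset.sum_neg_distrib, h1, add_neg_cancel]
  have hsum : ∀ (d : N →₀ A), d.support ⊆ T → ∑ j, d (t j) • t j = lc d := fun d hd => by
    rw [Finsupp.linearCombination_apply, Finsupp.sum_of_support_subset d hd (fun i r => r • id i)
      (fun _ _ => zero_smul _ _)]
    conv_rhs => rw [← Finset.sum_coe_sort, ← Equiv.sum_comp T.equivFin.symm]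
    rfl
  refine ⟨T.card, n + L, a, μ', y', hy', ?_, fun B' y hy => ?_⟩
  · rw [Fin.sum_univ_add]
    simp [μ', y']
  · have h1 : ∑ j, (∑ i, a j i • y i) ⊗ₜ[A] t j = 0 := by simp [hy _]
    simp only [TensorProduct.sum_tmul, TensorProduct.smul_tmul] at h1
    rw [Finset.sum_comm] at h1
    simp only [← TensorProduct.tmul_sum] at h1
    rw [Fin.sum_univ_add] at h1 ⊢
    refine Eq.trans ?_ h1
    refine congrArg₂ (· + ·) (Finset.sum_congr rfl fun i _ => ?_) (Finset.sum_congr rfl fun l _ => ?_)
    · simp only [μ', a, Fin.addCases_left]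
      rw [hsum _ (Finsupp.support_single_subset.trans (Finset.singleton_subset_iff.2 (Finset.mem_union_left _
        (Finset.mem_image_of_mem _ (Finset.mem_univ i)))))]
      simp [lc]
    · simp only [μ', a, Fin.addCases_right, Pi.zero_apply, map_zero, TensorProduct.tmul_zero, neg_smul,
        Finset.sum_neg_distrib, TensorProduct.tmul_neg]
      rw [hsum _ (Finset.subset_union_right.trans' (Finset.subset_biUnion_of_mem (fun l => (k l).1.support)
        (Finset.mem_univ l))), LinearMap.mem_ker.1 (k l).2, TensorProduct.tmul_zero, neg_zero]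

/-- Adequate functors are generated by linearly adequate ones. -/
theorem exists_gen (hF : Adeq.adequate A F) (B : Adeq.Alg A) (x : Val F B) :
    ∃ (m n : ℕ) (a : Fin m → Fin n → A) (lam : stdL a ⟶ F) (y : Val (stdL a) B), app lam B y = x := by
  obtain ⟨q⟩ := exists_pres hF
  obtain ⟨m, n, a, μ, y, hy, hyz, hker⟩ := exists_system q.φ.hom B (uEquiv q.M B (app q.ι B x)) (by
    rw [← uEquiv_map, (q.mem B _).2 ⟨x, rfl⟩, map_zero])
  obtain ⟨lam, hlam⟩ := q.exists_hom (a := a) μ hker
  refine ⟨m, n, a, lam, (stdPres a).elt y hy, q.inj B ((uEquiv q.M B).injective ?_)⟩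
  rw [hlam, (stdPres a).co_elt, ← hyz]
  rfl

/-- The index type of maps from standard functors into a functor. -/
abbrev Idx (F : Adeq.MVF A) : Type (u + 1) := Σ (mn : ℕ × ℕ) (a : Fin mn.1 → Fin mn.2 → A), stdL a ⟶ F

end Groth.Agent.AdeqLib
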