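import Groth.Agent.AdeqLib.FlatBC

/-!
# Additive maps commuting with units are linear
-/

set_option autoImplicit false
set_option backward.isDefEq.respectTransparency false
set_option backward.isDefEq.respectTransparency.types false
universe u

namespace Groth.Agent.AdeqLib

open CategoryTheory Limits Opposite TensorProduct

variable {A : Type u} [CommRing A]

/-- Every algebra has a flat extension with a retraction in which `b` is a difference of two units. -/
theorem exists_units_extension (B : Adeq.Alg A) (b : B) :
    ∃ (C : Adeq.Alg A) (g : B ⟶ C), g.hom.toRingHom.Flat ∧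
      (∃ r : C →+ B, r 1 = 1 ∧ ∀ (c : B) (x : C), r (g.hom c * x) = c * r x) ∧ ∃ v w : (C : Type u)ˣ, g.hom b = (v : C) - w := by
  let m : Polynomial B := Polynomial.X * (Polynomial.X + Polynomial.C b)
  let C : Adeq.Alg A := Adeq.algOf A (Localization.Away m)
  let g : B ⟶ C := CommAlgCat.ofHom (IsScalarTower.toAlgHom A B (Localization.Away m))
  have hm : IsUnit (algebraMap (Polynomial B) (Localization.Away m) m) := IsLocalization.Away.algebraMap_isUnit m
  rw [map_mul, IsUnit.mul_iff] at hm
  refine ⟨C, g, ?_, ?_, hm.2.unit, hm.1.unit, ?_⟩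
  · haveI : Module.Flat (Polynomial B) (Localization.Away m) :=
      IsLocalization.flat (Localization.Away m) (Submonoid.powers m)
    haveI : Module.Flat (B : Type u) (Localization.Away m) := Module.Flat.trans _ (Polynomial B) _
    have : (algebraMap (B : Type u) (Localization.Away m)).Flat := RingHom.flat_algebraMap_iff.2 inferInstance
    exact this
  · let s : LaurentSeries B := HahnSeries.single (-1) 1
    have hs : IsUnit s := IsUnit.of_mul_eq_one (HahnSeries.single 1 1) (by simp [s])
    let ev : Polynomial B →ₐ[(B : Type u)] LaurentSeries B := Polynomial.aeval s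
    have hC : ∀ c : B, algebraMap (B : Type u) (LaurentSeries B) c = HahnSeries.single 0 c := fun c => by
      simp [HahnSeries.algebraMap_apply']
    have h1 : IsUnit ((1 : PowerSeries B) + PowerSeries.C b * PowerSeries.X) :=
      PowerSeries.isUnit_iff_constantCoeff.2 (by simp)
    have hmu : IsUnit (ev m) := by
      have h2 := h1.map (HahnSeries.ofPowerSeries ℤ B)
      rw [map_mul]
      refine (by simpa [ev] using hs : IsUnit (ev Polynomial.X)).mul ?_
      have : ev (Polynomial.X + Polynomial.C b) =
          s * HahnSeries.ofPowerSeries ℤ B (1 + PowerSeries.C b * PowerSeries.X) := by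
        simp [ev, s, hC, mul_add, HahnSeries.ofPowerSeries_C, HahnSeries.ofPowerSeries_X, HahnSeries.C_apply,
          HahnSeries.single_mul_single]
      rw [this]
      exact hs.mul h2
    let L : Localization.Away m →ₐ[(B : Type u)] LaurentSeries B :=
      IsLocalization.liftAlgHom (M := Submonoid.powers m) (f := ev) (by
        rintro ⟨y, k, rfl⟩
        simpa using hmu.pow k)
    refine ⟨AddMonoidHom.mk' (fun x => (L x).coeff 0) (fun x y => by rw [map_add]; rfl), ?_, fun c x => ?_⟩
    · show (L 1).coeff 0 = 1
      simp
    · show (L (algebraMap (B : Type u) (Localization.Away m) c * (x : Localization.Away m))).coeff 0 = c * (L x).coeff 0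
      rw [map_mul, AlgHom.commutes, hC, HahnSeries.coeff_single_zero_mul]
  · show algebraMap B (Localization.Away m) b = _
    rw [IsUnit.unit_spec, IsUnit.unit_spec, map_add, add_sub_cancel_left,
      IsScalarTower.algebraMap_apply B (Polynomial B) (Localization.Away m), Polynomial.algebraMap_eq]

/-- Additive natural maps commuting with units are linear, for targets satisfying flat base change. -/
theorem smul_of_units (F G : Adeq.MVF A) (φ : ∀ B : Adeq.Alg A, Val F B → Val G B)
    (hnat : ∀ {B B' : Adeq.Alg A} (f : B ⟶ B') (x : Val F B), φ B' (res F f x) = res G f (φ B x))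
    (hadd : ∀ (B : Adeq.Alg A) (x y : Val F B), φ B (x + y) = φ B x + φ B y)
    (hunit : ∀ (B : Adeq.Alg A) (v : (B : Type u)ˣ) (x : Val F B), φ B ((v : B) • x) = (v : B) • φ B x)
    (hG : ∀ {B B' : Adeq.Alg A} (f : B ⟶ B'), f.hom.toRingHom.Flat → IsIso (G.bc f))
    (B : Adeq.Alg A) (b : B) (x : Val F B) : φ B (b • x) = b • φ B x := by
  obtain ⟨C, g, hg, hr, v, w, hvw⟩ := exists_units_extension B b
  have hinj : Function.Injective (res G g) := fun y y' hy => by
    letI := g.hom.toRingHom.toAlgebra
    obtain ⟨r₀, hr, hr₀⟩ := hr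
    let r : C →ₗ[(B : Type u)] B :=
      { toFun := r₀
        map_add' := map_add r₀
        map_smul' := fun c x => hr₀ c x }
    haveI := hG g hg
    have h1 : (1 : C) ⊗ₜ[(B : Type u)] y = (1 : C) ⊗ₜ[(B : Type u)] y' := by
      refine ((ConcreteCategory.isIso_iff_bijective (G.bc g)).1 inferInstance).1 ?_
      refine (bc_tmul g (1 : C) y).trans (Eq.trans ?_ (bc_tmul g (1 : C) y').symm)
      rw [hy]
    have h2 := congrArg (fun z => TensorProduct.lid (B : Type u) (Val G B) (r.rTensor (Val G B) z)) h1
    simpa [r, hr] using h2
  refine hinj ?_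
  rw [← hnat, res_smul, res_smul, ← hnat, hvw]
  generalize res F g x = z
  have h0 : φ C (((v : C) - w) • z) + φ C ((w : C) • z) = φ C ((v : C) • z) := by
    rw [← hadd, ← add_smul, sub_add_cancel]
  rw [hunit, hunit, ← eq_sub_iff_add_eq] at h0
  rw [h0, sub_smul]

end Groth.Agent.AdeqLib
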